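import Cfsg.Agent.Lib.L43Three.Compl
import Cfsg.Agent.Lib.L43Three.Model
import Cfsg.Agent.Lib.Solvable.Gaschutz
import Cfsg.Agent.Lib.SLPres.Main
import Mathlib.Algebra.Module.ZMod

/-!
S3373: the normaliser of the subgroup of order 27 is the affine group `3³:SL(3,3)`.
-/

set_option autoImplicit false
set_option linter.style.haveILetI false
set_option linter.unusedSectionVars false

namespace Cfsg.Agent.L43Three

open Subgroup Matrix
open Cfsg.Agent.HeisSLThree (pw)

theorem card_gl3 : Nat.card (GL (Fin 3) K) = 11232 := by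
  rw [ClassicalSL.card_gl_fin rfl, Nat.card_zmod]
  decide

theorem card_sl3 : Nat.card SL₃ = 5616 := by
  have h := ClassicalSL.card_sl_mul (ι := Fin 3) (F := K)
  rw [card_gl3, Nat.card_zmod] at h
  show Nat.card (SpecialLinearGroup (Fin 3) K) = _
  omega

/-- A subgroup of index two of `GL(3,3)` is the image of `SL(3,3)`. -/
theorem eq_toGL_range (H : Subgroup (GL (Fin 3) K)) (hH : Nat.card H = 5616) :
    H = (SpecialLinearGroup.toGL : SL₃ →* GL (Fin 3) K).range := by
  have hinj : Function.Injective (SpecialLinearGroup.toGL : SL₃ →* GL (Fin 3) K) :=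
    fun a b h => Subtype.ext (congrArg Units.val h)
  have hidx : H.index = 2 := by
    have := H.card_mul_index
    rw [hH, card_gl3] at this
    omega
  refine (eq_of_le_of_card_ge ?_ (le_of_eq ?_)).symm
  · rw [MonoidHom.range_eq_map, ← ClassicalSL.closure_elemTransvections, MonoidHom.map_closure,
      closure_le]
    rintro _ ⟨_, ⟨i, j, h, c, rfl⟩, rfl⟩
    have e : SpecialLinearGroup.transvection h c =
        SpecialLinearGroup.transvection h (c * 2) * SpecialLinearGroup.transvection h (c * 2) := by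
      rw [← SLPres.slData_y h, ← SLPres.slData_y h, (SLPres.slData 3 K).add h]
      congr 1
      revert c; decide
    rw [e, map_mul]
    exact mul_self_mem_of_index_two hidx _
  · rw [hH, ← Nat.card_congr (MonoidHom.ofInjective hinj).toEquiv, card_sl3]

namespace Pair

variable {G : Type*} [Group G] [Finite G] (P : Pair G)
include P

/-- The identification with the affine group. -/
theorem exists_affine : ∃ ι : Aff →* G, Function.Injective ι ∧
    ι.range = normalizer (P.D : Set G) ∧ (∀ x, x ∈ P.D ↔ ∃ v, ι (trans v) = x) ∧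
    ι (trans (e 0)) = P.z ∧ ι (trans (e 1)) = P.y := by
  classical
  set L := zpowers P.z ⊔ zpowers P.y with hL
  have hLD : L ≤ P.D := sup_le (zpowers_le.2 P.z_D) (zpowers_le.2 P.y_D)
  obtain ⟨d, hd, hdL⟩ : ∃ d ∈ P.D, d ∉ L := SetLike.not_le_iff_exists.1 fun h => by
    have := card_le_of_le h
    rw [P.card_D, P.card_zy P.y_mem P.y_ne] at this
    omega
  have eD : P.D = L ⊔ zpowers d := (eq_of_le_of_card_ge (sup_le hLD (zpowers_le.2 hd)) (by
    rw [P.card_D, (P.card_adjoin (hLD.trans P.D_Q) (mem_sup_left (mem_zpowers _)) (P.D_Q hd)).2 hdL,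
      P.card_zy P.y_mem P.y_ne])).symm
  have exp : ∀ a ∈ P.D, a ^ 3 = 1 := fun a ha => P.exp_Q a (P.D_Q ha)
  have pwD : ∀ a ∈ P.D, ∀ k : K, pw a k ∈ P.D := fun a ha k => pow_mem ha _
  let eV : Multiplicative Vec →* P.D :=
    { toFun := fun v => ⟨pw P.z (v.toAdd 0) * pw P.y (v.toAdd 1) * pw d (v.toAdd 2),
        mul_mem (mul_mem (pwD _ P.z_D _) (pwD _ P.y_D _)) (pwD _ hd _)⟩
      map_one' := Subtype.ext (by simp [HeisSLThree.pw_zero])
      map_mul' := fun v w => Subtype.ext (by
        have c := fun a ha b hb => P.D_comm a ha b hb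
        simp only [toAdd_mul, Pi.add_apply, coe_mul, HeisSLThree.pw_add (exp _ P.z_D),
          HeisSLThree.pw_add (exp _ P.y_D), HeisSLThree.pw_add (exp _ hd)]
        rw [Commute.mul_mul_mul_comm (c _ (pwD _ P.z_D _) _ (pwD _ P.y_D _)),
          Commute.mul_mul_mul_comm (c _ (mul_mem (pwD _ P.z_D _) (pwD _ P.y_D _)) _ (pwD _ hd _))]) }
  have hz0 : eV (e 0) = ⟨P.z, P.z_D⟩ :=
    Subtype.ext (by simp [eV, e, HeisSLThree.pw_zero, HeisSLThree.pw_one])
  have hy1 : eV (e 1) = ⟨P.y, P.y_D⟩ :=
    Subtype.ext (by simp [eV, e, HeisSLThree.pw_zero, HeisSLThree.pw_one])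
  have hd2 : eV (e 2) = ⟨d, hd⟩ :=
    Subtype.ext (by simp [eV, e, HeisSLThree.pw_zero, HeisSLThree.pw_one])
  have hsur : Function.Surjective eV := by
    rw [← MonoidHom.range_eq_top]
    apply Subgroup.map_injective P.D.subtype_injective
    rw [← MonoidHom.range_eq_map, Subgroup.range_subtype]
    refine le_antisymm (map_subtype_le _) ?_
    conv_lhs => rw [eD, hL]
    refine sup_le (sup_le ?_ ?_) ?_ <;> rw [zpowers_le]
    exacts [⟨_, ⟨e 0, rfl⟩, congrArg Subtype.val hz0⟩, ⟨_, ⟨e 1, rfl⟩, congrArg Subtype.val hy1⟩,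
      ⟨_, ⟨e 2, rfl⟩, congrArg Subtype.val hd2⟩]
  have hbij : Function.Bijective eV := (Nat.bijective_iff_surjective_and_card eV).2 ⟨hsur, by
    rw [P.card_D, Nat.card_congr Multiplicative.toAdd, Nat.card_fun, Nat.card_zmod, Nat.card_fin]
    norm_num⟩
  let E : Multiplicative Vec ≃* P.D := MulEquiv.ofBijective eV hbij
  set N := normalizer (P.D : Set G) with hN
  have mem : ∀ (n : N) (x : P.D), (n : G) * x * (n : G)⁻¹ ∈ P.D := fun n x =>
    (mem_normalizer_iff.1 n.2 _).1 x.2
  let T : N → Vec →+ Vec := fun n =>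
    { toFun := fun v => (E.symm ⟨_, mem n (E (.ofAdd v))⟩).toAdd
      map_zero' := by
        show (E.symm ⟨_, mem n (E 1)⟩).toAdd = 0
        rw [show (⟨_, mem n (E 1)⟩ : P.D) = 1 from Subtype.ext (by simp), map_one]
        rfl
      map_add' := fun v w => by
        rw [← toAdd_mul, ← map_mul]
        refine congrArg (fun x => (E.symm x).toAdd) (Subtype.ext ?_)
        rw [ofAdd_add, map_mul]
        simp only [coe_mul]
        group }
  have hT : ∀ (n : N) (v : Vec), (E (.ofAdd (T n v)) : G) = n * E (.ofAdd v) * (n : G)⁻¹ := by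
    intro n v
    show ((E (.ofAdd (E.symm ⟨_, mem n (E (.ofAdd v))⟩).toAdd) : P.D) : G) = _
    rw [ofAdd_toAdd, E.apply_symm_apply]
  have hTm : ∀ (m n : N) (v : Vec), T (m * n) v = T m (T n v) := fun m n v =>
    Multiplicative.ofAdd.injective (E.injective (Subtype.ext (by
      rw [hT, hT, hT]; push_cast; group)))
  let mat : N →* Matrix (Fin 3) (Fin 3) K :=
    { toFun := fun n => LinearMap.toMatrix' ((T n).toZModLinearMap 3)
      map_one' := by
        have : (T 1).toZModLinearMap 3 = LinearMap.id := LinearMap.ext fun v =>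
          Multiplicative.ofAdd.injective (E.injective (Subtype.ext (by
            show (E (.ofAdd (T 1 v)) : G) = _
            rw [hT]; simp)))
        rw [this, LinearMap.toMatrix'_id]
      map_mul' := fun m n => by
        rw [← LinearMap.toMatrix'_comp]
        exact congrArg _ (LinearMap.ext fun v => hTm m n v) }
  have hmat : ∀ (n : N) (v : Vec), mat n *ᵥ v = T n v := fun n v =>
    (LinearMap.toMatrix'_mulVec _ _)
  let gl : N →* GL (Fin 3) K := mat.toHomUnits
  have hker : gl.ker = P.D.subgroupOf N := by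
    ext n
    rw [MonoidHom.mem_ker, mem_subgroupOf]
    have e1 : gl n = 1 ↔ ∀ v, T n v = v := by
      constructor
      · intro h v
        rw [← hmat, show mat n = 1 from congrArg Units.val h, one_mulVec]
      · intro h
        refine Units.ext (show mat n = 1 from Matrix.ext_of_mulVec_single fun j => ?_)
        rw [hmat, h, one_mulVec]
    rw [e1]
    constructor
    · intro h
      refine P.mem_centralizer_D fun x hx => ?_
      obtain ⟨v, hv⟩ := E.surjective ⟨x, hx⟩
      have h2 := hT n v.toAdd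
      rw [h, ofAdd_toAdd, hv] at h2
      exact (mul_inv_eq_iff_eq_mul.1 h2.symm)
    · intro h v
      refine Multiplicative.ofAdd.injective (E.injective (Subtype.ext ?_))
      rw [hT, P.D_comm _ h _ (E (.ofAdd v)).2, mul_inv_cancel_right]
  have hDN : P.D ≤ N := le_normalizer
  have hrange : Nat.card gl.range = 5616 := by
    have h := Subgroup.card_eq_card_quotient_mul_card_subgroup gl.ker
    rw [Nat.card_congr (QuotientGroup.quotientKerEquivRange gl).toEquiv, hker,
      Nat.card_congr (subgroupOfEquivOfLe hDN).toEquiv, P.card_D, P.card_normalizer] at h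
    omega
  have hsl := eq_toGL_range gl.range hrange
  have hdet : ∀ n : N, (mat n).det = 1 := fun n => by
    obtain ⟨A, hA⟩ := hsl.le ⟨n, rfl⟩
    rw [show mat n = A.1 from (congrArg Units.val hA).symm]
    exact A.2
  let ψ : N →* SL₃ :=
    { toFun := fun n => ⟨mat n, hdet n⟩
      map_one' := Subtype.ext (map_one mat)
      map_mul' := fun m n => Subtype.ext (map_mul mat m n) }
  have hψker : ∀ n : N, ψ n = 1 → (n : G) ∈ P.D := fun n h => by
    have h2 : n ∈ gl.ker := Units.ext (congrArg Subtype.val h)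
    rwa [hker] at h2
  -- the complement
  set D' := P.D.subgroupOf N with hD'
  haveI : D'.Normal := hker ▸ gl.normal_ker
  haveI : IsMulCommutative D' := ⟨⟨fun a b => Subtype.ext (Subtype.ext (P.D_comm _ a.2 _ b.2))⟩⟩
  obtain ⟨U, hUC, hU, hUD⟩ := P.exists_compl
  have hUN : U ≤ N := hUC.trans P.Cz_le_normalizer
  set U' := U.subgroupOf N
  have hU'D : U' ⊓ D' = ⊥ := by
    rw [eq_bot_iff]
    rintro n ⟨h1, h2⟩
    have h3 : (n : G) ∈ U ⊓ P.D := ⟨h1, h2⟩
    rw [hUD, mem_bot] at h3
    exact Subtype.ext h3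
  have hcU : Nat.card U' = 27 := by rw [Nat.card_congr (subgroupOfEquivOfLe hUN).toEquiv, hU]
  have hcD : Nat.card D' = 27 := by rw [Nat.card_congr (subgroupOfEquivOfLe hDN).toEquiv, P.card_D]
  have hsup : Nat.card ↥(D' ⊔ U') = 729 := by
    have h := relIndex_mul_relIndex ⊥ D' (D' ⊔ U') bot_le le_sup_left
    rw [relIndex_bot_left, relIndex_bot_left, sup_comm, relIndex_sup_right,
      ← inf_relIndex_right, inf_comm, hU'D, relIndex_bot_left, hcU, hcD] at h
    rw [sup_comm]
    exact h.symm
  obtain ⟨H, hH⟩ := SolvGaschutz.existence (K := D') (U := D' ⊔ U') le_sup_left (by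
    have h := (D' ⊔ U').card_mul_index
    rw [hsup, P.card_normalizer] at h
    rw [hcD, show (D' ⊔ U').index = 208 by omega]
    norm_num) le_sup_right hU'D rfl
  have hψH : Function.Bijective (ψ.comp H.subtype) := by
    refine (Nat.bijective_iff_injective_and_card _).2 ⟨(injective_iff_map_eq_one _).2 fun h hh => ?_, ?_⟩
    · have h1 : (h : N) ∈ D' ⊓ H := ⟨hψker _ hh, h.2⟩
      rw [hH.disjoint.eq_bot, mem_bot] at h1
      exact Subtype.ext h1
    · have h := hH.card_mul_card
      rw [hcD, P.card_normalizer] at h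
      rw [card_sl3]; omega
  let σ : SL₃ →* G := N.subtype.comp (H.subtype.comp (MulEquiv.ofBijective _ hψH).symm.toMonoidHom)
  have hσN : ∀ A, σ A ∈ N := fun A => SetLike.coe_mem _
  have hσψ : ∀ A, ψ ⟨σ A, hσN A⟩ = A := fun A => (MulEquiv.ofBijective _ hψH).apply_symm_apply A
  let ι : Aff →* G := SemidirectProduct.lift (P.D.subtype.comp E.toMonoidHom) σ fun A => by
    refine MonoidHom.ext fun v => ?_
    show ((E (act A v) : P.D) : G) = σ A * E v * (σ A)⁻¹
    rw [act_apply, ← hσψ A]
    show ((E (.ofAdd (mat ⟨σ A, hσN A⟩ *ᵥ v.toAdd)) : P.D) : G) = _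
    rw [hmat, hT, ofAdd_toAdd, hσψ A]
  have hιt : ∀ v, ι (trans v) = (E v : G) := fun v => SemidirectProduct.lift_inl _ _ _ v
  have hι : Function.Injective ι := (injective_iff_map_eq_one ι).2 fun x hx => by
    have h1 : (E x.left : G) * σ x.right = 1 := hx
    have h2 : σ x.right ∈ P.D := by
      rw [eq_inv_of_mul_eq_one_right h1]; exact inv_mem (SetLike.coe_mem _)
    have h3 : x.right = 1 := by
      rw [← hσψ x.right]
      have : (⟨σ x.right, hσN _⟩ : N) ∈ gl.ker := hker ▸ (h2 : _)
      exact Subtype.ext (congrArg Units.val this)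
    rw [h3, map_one, mul_one] at h1
    exact SemidirectProduct.ext (E.injective ((Subtype.ext h1 : E x.left = 1).trans (map_one E).symm)) h3
  refine ⟨ι, hι, ?_, fun x => ⟨fun hx => ?_, ?_⟩, ?_, ?_⟩
  · refine eq_of_le_of_card_ge ?_ (le_of_eq ?_)
    · rintro _ ⟨x, rfl⟩
      exact mul_mem (hDN (SetLike.coe_mem _)) (hσN _)
    · rw [P.card_normalizer, ← Nat.card_congr (MonoidHom.ofInjective hι).toEquiv, SemidirectProduct.card,
        card_sl3, Nat.card_congr Multiplicative.toAdd, Nat.card_fun, Nat.card_zmod, Nat.card_fin]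
      norm_num
  · obtain ⟨v, hv⟩ := E.surjective ⟨x, hx⟩
    exact ⟨v, by rw [hιt, hv]⟩
  · rintro ⟨v, rfl⟩
    rw [hιt]; exact SetLike.coe_mem _
  · rw [hιt]; exact congrArg Subtype.val hz0
  · rw [hιt]; exact congrArg Subtype.val hy1

end Pair

end Cfsg.Agent.L43Three
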