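import Cfsg.Agent.Lib.HeisSLThree.Abstract
import Cfsg.Agent.Lib.FGBasics.Extraspecial
import Mathlib.GroupTheory.Sylow
import Mathlib.GroupTheory.Commutator.Basic

/-!
S3373: the centraliser `3^{1+4}:SL(2,3)` of an element of order three and its first consequences.
-/

set_option autoImplicit false
set_option linter.style.haveILetI false
set_option linter.unusedSectionVars false

namespace Cfsg.Agent.L43Three

open Subgroup
open Cfsg.Agent.HeisSLThree (SL₂)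
open scoped commutatorElement

/-- An element of order three with centraliser `3^{1+4}:SL(2,3)`, the central involution of the
quotient inverting `Q/⟨z⟩`. -/
structure Conf (G : Type*) [Group G] [Finite G] where
  /-- the element of order three -/
  z : G
  /-- the normal extraspecial subgroup of its centraliser -/
  Q : Subgroup G
  /-- the quotient map -/
  pi : centralizer ({z} : Set G) →* SL₂
  pi_surj : Function.Surjective pi
  pi_ker : ∀ x : centralizer ({z} : Set G), pi x = 1 ↔ (x : G) ∈ Q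
  Q_le : Q ≤ centralizer ({z} : Set G)
  card_Q : Nat.card Q = 243
  exp_Q : ∀ a ∈ Q, a ^ 3 = 1
  comm_mem : ∀ a ∈ Q, ∀ b ∈ Q, ⁅a, b⁆ ∈ zpowers z
  abel_le : ∀ A : Subgroup G, A ≤ Q → (∀ a ∈ A, ∀ b ∈ A, a * b = b * a) → Nat.card A ≤ 27
  z_mem : z ∈ Q
  z_ne : z ≠ 1
  cent_Q : ∀ x, (∀ q ∈ Q, x * q = q * x) → x ∈ Q
  center_Q : ∀ x ∈ Q, (∀ q ∈ Q, x * q = q * x) → x ∈ zpowers z
  inv : ∃ t ∈ centralizer ({z} : Set G), t * t = 1 ∧ t ≠ 1 ∧
    ∀ q ∈ Q, t * q * t⁻¹ * q ∈ zpowers z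

namespace Conf

variable {G : Type*} [Group G] [Finite G] (C : Conf G)
include C

/-- The centraliser. -/
abbrev Cz : Subgroup G := centralizer ({C.z} : Set G)

theorem z3 : C.z ^ 3 = 1 := C.exp_Q _ C.z_mem

theorem order_z : orderOf C.z = 3 :=
  haveI : Fact (Nat.Prime 3) := ⟨Nat.prime_three⟩
  orderOf_eq_prime C.z3 C.z_ne

theorem card_Z : Nat.card (zpowers C.z) = 3 := by rw [Nat.card_zpowers, C.order_z]

theorem mem_Cz {x : G} : x ∈ C.Cz ↔ x * C.z = C.z * x := mem_centralizer_singleton_iff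

theorem commute_z {x : G} (hx : x ∈ C.Cz) : Commute x C.z := C.mem_Cz.1 hx

theorem commute_zpow {x : G} (hx : x ∈ C.Cz) {c : G} (hc : c ∈ zpowers C.z) : Commute x c := by
  obtain ⟨n, rfl⟩ := mem_zpowers_iff.1 hc
  exact (C.commute_z hx).zpow_right n

theorem Z_le_Q : zpowers C.z ≤ C.Q := zpowers_le.2 C.z_mem

theorem z_cases {x : G} (hx : x ∈ zpowers C.z) : x = 1 ∨ x = C.z ∨ x = C.z⁻¹ := by
  classical
  obtain ⟨i, hi, e⟩ := Finset.mem_image.1 (mem_zpowers_iff_mem_range_orderOf.1 hx)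
  rw [Finset.mem_range, C.order_z] at hi
  interval_cases i
  · exact Or.inl (e.symm.trans (pow_zero _))
  · exact Or.inr (Or.inl (e.symm.trans (pow_one _)))
  · exact Or.inr (Or.inr (e.symm.trans
      (eq_inv_of_mul_eq_one_left (by rw [← pow_succ]; exact C.z3))))

theorem card_Cz : Nat.card C.Cz = 5832 := by
  have h := Subgroup.card_eq_card_quotient_mul_card_subgroup C.pi.ker
  rw [Nat.card_congr (QuotientGroup.quotientKerEquivOfSurjective C.pi C.pi_surj).toEquiv,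
    HeisSLThree.card_sl] at h
  have e : C.pi.ker = C.Q.subgroupOf C.Cz := by
    ext x
    rw [MonoidHom.mem_ker, mem_subgroupOf]
    exact C.pi_ker x
  rw [e, Nat.card_congr (subgroupOfEquivOfLe C.Q_le).toEquiv, C.card_Q] at h
  exact h

theorem conjQ {c q : G} (hc : c ∈ C.Cz) (hq : q ∈ C.Q) : c * q * c⁻¹ ∈ C.Q := by
  have h1 : C.pi ⟨q, C.Q_le hq⟩ = 1 := (C.pi_ker _).2 hq
  have h : C.pi (⟨c, hc⟩ * ⟨q, C.Q_le hq⟩ * ⟨c, hc⟩⁻¹) = 1 := by
    rw [map_mul, map_mul, map_inv, h1, mul_one, mul_inv_cancel]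
  exact (C.pi_ker _).1 h

theorem bracket_mul_left {a b c : G} (ha : a ∈ C.Q) (hb : b ∈ C.Q) (hc : c ∈ C.Q) :
    ⁅a * b, c⁆ = ⁅a, c⁆ * ⁅b, c⁆ := by
  have h1 : ⁅a * b, c⁆ = a * ⁅b, c⁆ * a⁻¹ * ⁅a, c⁆ := by
    simp only [commutatorElement_def]; group
  have h2 : Commute a ⁅b, c⁆ := C.commute_zpow (C.Q_le ha) (C.comm_mem _ hb _ hc)
  have h3 : Commute ⁅b, c⁆ ⁅a, c⁆ :=
    C.commute_zpow (C.Q_le (C.Z_le_Q (C.comm_mem _ hb _ hc))) (C.comm_mem _ ha _ hc)
  rw [h1, h2.eq, mul_inv_cancel_right, h3.eq]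

/-- The map `a ↦ ⁅a, y⁆` on `Q`. -/
def bracketHom {y : G} (hy : y ∈ C.Q) : C.Q →* zpowers C.z where
  toFun a := ⟨⁅(a : G), y⁆, C.comm_mem _ a.2 _ hy⟩
  map_one' := Subtype.ext (by simp)
  map_mul' a b := Subtype.ext (C.bracket_mul_left a.2 b.2 hy)

theorem card_inf_centralizer {y : G} (hy : y ∈ C.Q) (hyz : y ∉ zpowers C.z) :
    Nat.card ↥(C.Q ⊓ centralizer ({y} : Set G)) = 81 := by
  have hk : (C.bracketHom hy).ker = (C.Q ⊓ centralizer ({y} : Set G)).subgroupOf C.Q := by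
    ext a
    rw [MonoidHom.mem_ker, mem_subgroupOf, mem_inf]
    constructor
    · intro h
      refine ⟨a.2, mem_centralizer_singleton_iff.2 ?_⟩
      exact commutatorElement_eq_one_iff_mul_comm.1 (congrArg Subtype.val h)
    · rintro ⟨-, h⟩
      exact Subtype.ext (commutatorElement_eq_one_iff_mul_comm.2
        (mem_centralizer_singleton_iff.1 h))
  have hsurj : Function.Surjective (C.bracketHom hy) := by
    rw [← MonoidHom.range_eq_top]
    haveI : Fact (Nat.card (zpowers C.z)).Prime := ⟨by rw [C.card_Z]; exact Nat.prime_three⟩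
    refine ((C.bracketHom hy).range.eq_bot_or_eq_top_of_prime_card).resolve_left fun h => hyz ?_
    refine C.center_Q y hy fun q hq => ?_
    have hm : C.bracketHom hy ⟨q, hq⟩ ∈ (C.bracketHom hy).range := ⟨⟨q, hq⟩, rfl⟩
    rw [h, mem_bot] at hm
    have := congrArg Subtype.val hm
    exact (commutatorElement_eq_one_iff_mul_comm.1 this).symm
  have h := Subgroup.card_eq_card_quotient_mul_card_subgroup (C.bracketHom hy).ker
  rw [Nat.card_congr (QuotientGroup.quotientKerEquivOfSurjective _ hsurj).toEquiv, C.card_Z,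
    C.card_Q, hk, Nat.card_congr (subgroupOfEquivOfLe inf_le_left).toEquiv] at h
  omega

omit C in
theorem card_three_sl (H : Subgroup SL₂) (hH : IsPGroup 3 H) : Nat.card H ≤ 3 := by
  haveI : Fact (Nat.Prime 3) := ⟨Nat.prime_three⟩
  obtain ⟨k, hk⟩ := IsPGroup.iff_card.1 hH
  have h : Nat.card H ∣ 24 := HeisSLThree.card_sl ▸ H.card_subgroup_dvd_card
  rw [hk] at h ⊢
  have h2 : k ≤ 1 := by
    by_contra h2
    have h9 : 3 ^ 2 ∣ 24 := (pow_dvd_pow 3 (by omega)).trans h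
    norm_num at h9
  interval_cases k <;> norm_num

theorem isPGroup_Q : IsPGroup 3 C.Q := fun a =>
  ⟨1, Subtype.ext (by simpa using C.exp_Q _ a.2)⟩

/-- Two elements of a 3-subgroup of the centraliser have their commutator in `Q`. -/
theorem bracket_mem_Q {A : Subgroup G} (hA : A ≤ C.Cz) (hp : IsPGroup 3 A) {a b : G} (ha : a ∈ A)
    (hb : b ∈ A) : ⁅a, b⁆ ∈ C.Q := by
  haveI : Fact (Nat.Prime 3) := ⟨Nat.prime_three⟩
  set H := (A.subgroupOf C.Cz).map C.pi with hH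
  have h3 : Nat.card H ≤ 3 :=
    card_three_sl _ ((hp.of_equiv (subgroupOfEquivOfLe hA).symm).map _)
  have hHp : IsPGroup 3 H := (hp.of_equiv (subgroupOfEquivOfLe hA).symm).map _
  obtain ⟨k, hk⟩ := IsPGroup.iff_card.1 hHp
  haveI : IsCyclic H := by
    rcases k with _ | _ | k
    · haveI : Subsingleton H := (Nat.card_eq_one_iff_unique.1 (by simpa using hk)).1
      exact isCyclic_of_subsingleton
    · exact isCyclic_of_prime_card (p := 3) (by simpa using hk)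
    · have : 3 ^ 2 ≤ 3 ^ (k + 1 + 1) := Nat.pow_le_pow_right (by norm_num) (by omega)
      omega
  have hc : ∀ u ∈ H, ∀ v ∈ H, u * v = v * u := fun u hu v hv =>
    congrArg Subtype.val ((IsCyclic.isMulCommutative (α := H)).is_comm.comm (⟨u, hu⟩ : H) ⟨v, hv⟩)
  refine (C.pi_ker ⁅(⟨a, hA ha⟩ : C.Cz), ⟨b, hA hb⟩⁆).1 ?_
  rw [map_commutatorElement]
  exact commutatorElement_eq_one_iff_mul_comm.2
    (hc _ ⟨_, by simpa [mem_subgroupOf] using ha, rfl⟩ _ ⟨_, by simpa [mem_subgroupOf] using hb, rfl⟩)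

/-- The configuration at a conjugate element. -/
def conj (g : G) : Conf G where
  z := g * C.z * g⁻¹
  Q := C.Q.map (MulAut.conj g).toMonoidHom
  pi := C.pi.comp
    (((MulAut.conj g⁻¹).toMonoidHom.comp (centralizer ({g * C.z * g⁻¹} : Set G)).subtype).codRestrict
      C.Cz (fun x => C.mem_Cz.2 (by
        have h := mem_centralizer_singleton_iff.1 x.2
        show g⁻¹ * (x : G) * g⁻¹⁻¹ * C.z = C.z * (g⁻¹ * (x : G) * g⁻¹⁻¹)
        rw [inv_inv]
        calc g⁻¹ * (x : G) * g * C.z = g⁻¹ * ((x : G) * (g * C.z * g⁻¹)) * g := by group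
          _ = _ := by rw [h]; group)))
  pi_surj := fun u => by
    obtain ⟨c, rfl⟩ := C.pi_surj u
    refine ⟨⟨g * c * g⁻¹, mem_centralizer_singleton_iff.2 ?_⟩, ?_⟩
    · calc g * (c : G) * g⁻¹ * (g * C.z * g⁻¹) = g * ((c : G) * C.z) * g⁻¹ := by group
        _ = _ := by rw [C.mem_Cz.1 c.2]; group
    · refine congrArg C.pi (Subtype.ext ?_)
      show g⁻¹ * (g * (c : G) * g⁻¹) * g⁻¹⁻¹ = _
      group
  pi_ker := fun x => by
    rw [MonoidHom.comp_apply, C.pi_ker]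
    show g⁻¹ * (x : G) * g⁻¹⁻¹ ∈ C.Q ↔ _
    rw [inv_inv]
    constructor
    · intro h
      exact ⟨_, h, show g * (g⁻¹ * (x : G) * g) * g⁻¹ = x by group⟩
    · rintro ⟨q, hq, e⟩
      rw [← e]
      show g⁻¹ * (g * q * g⁻¹) * g ∈ C.Q
      rwa [show g⁻¹ * (g * q * g⁻¹) * g = q by group]
  Q_le := by
    rintro _ ⟨q, hq, rfl⟩
    refine mem_centralizer_singleton_iff.2 ?_
    show g * q * g⁻¹ * (g * C.z * g⁻¹) = g * C.z * g⁻¹ * (g * q * g⁻¹)
    calc g * q * g⁻¹ * (g * C.z * g⁻¹) = g * (q * C.z) * g⁻¹ := by group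
      _ = _ := by rw [C.mem_Cz.1 (C.Q_le hq)]; group
  card_Q := by rw [card_map_of_injective (MulAut.conj g).injective]; exact C.card_Q
  exp_Q := by
    rintro _ ⟨q, hq, rfl⟩
    rw [← map_pow, C.exp_Q q hq, map_one]
  comm_mem := by
    rintro _ ⟨a, ha, rfl⟩ _ ⟨b, hb, rfl⟩
    obtain ⟨n, hn⟩ := mem_zpowers_iff.1 (C.comm_mem a ha b hb)
    refine ⟨n, ?_⟩
    rw [← map_commutatorElement, ← hn, map_zpow]
    rfl
  abel_le := fun A hA hc => by
    have h := C.abel_le (A.map (MulAut.conj g⁻¹).toMonoidHom) (by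
      rintro _ ⟨a, ha, rfl⟩
      obtain ⟨q, hq, rfl⟩ := hA ha
      show g⁻¹ * (g * q * g⁻¹) * g⁻¹⁻¹ ∈ C.Q
      rwa [show g⁻¹ * (g * q * g⁻¹) * g⁻¹⁻¹ = q by group]) (by
      rintro _ ⟨a, ha, rfl⟩ _ ⟨b, hb, rfl⟩
      rw [← map_mul, ← map_mul, hc a ha b hb])
    rwa [card_map_of_injective (MulAut.conj g⁻¹).injective] at h
  z_mem := ⟨C.z, C.z_mem, rfl⟩
  z_ne := fun h => C.z_ne (conj_eq_one_iff.1 h)
  cent_Q := fun x hx => by
    refine ⟨g⁻¹ * x * g, C.cent_Q _ fun q hq => ?_, show g * (g⁻¹ * x * g) * g⁻¹ = x by group⟩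
    calc g⁻¹ * x * g * q = g⁻¹ * (x * (g * q * g⁻¹)) * g := by group
      _ = g⁻¹ * (g * q * g⁻¹ * x) * g := by
          have e : x * (g * q * g⁻¹) = g * q * g⁻¹ * x := hx _ ⟨q, hq, rfl⟩
          rw [e]
      _ = _ := by group
  center_Q := by
    rintro _ ⟨q, hq, rfl⟩ h
    have h1 : q ∈ zpowers C.z := C.center_Q q hq fun p hp => by
      have e := h _ ⟨p, hp, rfl⟩
      rw [← map_mul, ← map_mul] at e
      exact (MulAut.conj g).injective e
    obtain ⟨n, rfl⟩ := mem_zpowers_iff.1 h1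
    exact ⟨n, (map_zpow (MulAut.conj g) C.z n).symm⟩
  inv := by
    obtain ⟨t, ht, h2, h1, hi⟩ := C.inv
    refine ⟨g * t * g⁻¹, mem_centralizer_singleton_iff.2 ?_, ?_, fun h => h1 (conj_eq_one_iff.1 h), ?_⟩
    · calc g * t * g⁻¹ * (g * C.z * g⁻¹) = g * (t * C.z) * g⁻¹ := by group
        _ = _ := by rw [C.mem_Cz.1 ht]; group
    · calc g * t * g⁻¹ * (g * t * g⁻¹) = g * (t * t) * g⁻¹ := by group
        _ = _ := by rw [h2]; group
    · rintro _ ⟨q, hq, rfl⟩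
      obtain ⟨n, hn⟩ := mem_zpowers_iff.1 (hi q hq)
      refine ⟨n, ?_⟩
      show (g * C.z * g⁻¹) ^ n = g * t * g⁻¹ * (g * q * g⁻¹) * (g * t * g⁻¹)⁻¹ * (g * q * g⁻¹)
      rw [show (g * C.z * g⁻¹) ^ n = g * C.z ^ n * g⁻¹ from (map_zpow (MulAut.conj g) C.z n).symm, hn]
      group

theorem conj_z (g : G) : (C.conj g).z = g * C.z * g⁻¹ := rfl

end Conf

end Cfsg.Agent.L43Three
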