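import Cfsg.Agent.Lib.L43Three.Normal

/-!
S3373: a subgroup of order 27 of the centraliser of `z` meeting the normal subgroup of order 27
trivially.
-/

set_option autoImplicit false
set_option linter.style.haveILetI false
set_option linter.unusedSectionVars false

namespace Cfsg.Agent.L43Three

open Subgroup
open Cfsg.Agent.HeisSLThree (SL₂ pw)
open scoped commutatorElement

namespace Conf

variable {G : Type*} [Group G] [Finite G] (C : Conf G)
include C

theorem bracket_inv_left {a b : G} (ha : a ∈ C.Q) (hb : b ∈ C.Q) : ⁅a⁻¹, b⁆ = ⁅a, b⁆⁻¹ := by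
  rw [eq_inv_iff_mul_eq_one, ← C.bracket_mul_left (inv_mem ha) ha hb, inv_mul_cancel,
    commutatorElement_one_left]

theorem bracket_inv_right {a b : G} (ha : a ∈ C.Q) (hb : b ∈ C.Q) : ⁅a, b⁻¹⁆ = ⁅a, b⁆⁻¹ := by
  rw [eq_inv_iff_mul_eq_one, ← C.bracket_mul_right ha (inv_mem hb) hb, inv_mul_cancel,
    commutatorElement_one_right]

theorem bracket_central {a b : G} (ha : a ∈ zpowers C.z) (hb : b ∈ C.Cz) : ⁅a, b⁆ = 1 :=
  commutatorElement_eq_one_iff_mul_comm.2 (C.commute_zpow hb ha).eq.symm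

theorem cube {x : G} (hx : x ∈ C.Q) : x * x * x = 1 := by
  rw [← C.exp_Q x hx, pow_succ, pow_two]

theorem inv_sq {x : G} (hx : x ∈ C.Q) : x * x = x⁻¹ := eq_inv_of_mul_eq_one_left (C.cube hx)

theorem cube_inv {x : G} (hx : x ∈ C.Q) : x⁻¹ * x⁻¹ = x :=
  (C.inv_sq (inv_mem hx)).trans (inv_inv x)

end Conf

namespace Pair

variable {G : Type*} [Group G] [Finite G] (P : Pair G)
include P

theorem D_Q : P.D ≤ P.Q := inf_le_left.trans inf_le_left

theorem D_Q' : P.D ≤ P.C'.Q := inf_le_right.trans inf_le_left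

theorem D_A : P.D ≤ P.A := inf_le_left

/-- Brackets of `Q` with an element of `B` land in `A`. -/
theorem bracket_mem_A {b q : G} (hb : b ∈ P.B) (hq : q ∈ P.Q) : ⁅q, b⁆ ∈ P.A := by
  have hbc := P.B_Cz hb
  have hmem : ⁅q, b⁆ ∈ P.Q := by
    rw [show ⁅q, b⁆ = q * (b * q⁻¹ * b⁻¹) by rw [commutatorElement_def]; group]
    exact mul_mem hq (P.conjQ hbc (inv_mem hq))
  refine mem_inf.2 ⟨hmem, mem_centralizer_singleton_iff.2 ?_⟩
  refine commutatorElement_eq_one_iff_mul_comm.1 ?_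
  have h := P.bracket_conj hbc hq P.y_mem
  rw [(P.comm_by hb).eq, mul_inv_cancel_right,
    show b * q * b⁻¹ = ⁅q, b⁆⁻¹ * q by simp only [commutatorElement_def]; group,
    P.bracket_mul_left (inv_mem hmem) hq P.y_mem, mul_eq_right, P.bracket_inv_left hmem P.y_mem,
    inv_eq_one] at h
  exact h

/-- The pairing between `⁅q, b⁆` and `⁅d, b⁆`. -/
theorem bracket_pair {b q d : G} (hb : b ∈ P.B) (hq : q ∈ P.Q) (hd : d ∈ P.D) :
    ⁅d, b⁆ ∈ zpowers P.y ∧ ⁅⁅d, b⁆, q⁆ = ⁅⁅q, b⁆, d⁆ := by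
  have he : ⁅d, b⁆ ∈ zpowers P.y := P.C'.comm_mem d (P.D_Q' hd) b hb.1
  have heA : ⁅d, b⁆ ∈ P.A := (zpowers_le.2 P.y_A) he
  have ha := P.bracket_mem_A hb hq
  set e := ⁅d, b⁆
  set a := ⁅q, b⁆
  refine ⟨he, ?_⟩
  have hae : ⁅a, e⁆ = 1 := by
    rcases cyclic_three P.y3 he with h | h | h <;> rw [h]
    · exact commutatorElement_one_right a
    · exact commutatorElement_eq_one_iff_mul_comm.2 (P.comm_ay ha).eq
    · exact commutatorElement_eq_one_iff_mul_comm.2 (P.comm_ay ha).inv_right.eq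
  have hdQ := P.D_Q hd
  have h := P.bracket_conj (P.B_Cz hb) hq hdQ
  rw [show b * q * b⁻¹ = a⁻¹ * q by simp only [a, commutatorElement_def]; group,
    show b * d * b⁻¹ = e⁻¹ * d by simp only [e, commutatorElement_def]; group,
    P.bracket_mul_left (inv_mem ha.1) hq (mul_mem (inv_mem heA.1) hdQ),
    P.bracket_mul_right (inv_mem ha.1) (inv_mem heA.1) hdQ,
    P.bracket_mul_right hq (inv_mem heA.1) hdQ, ← mul_assoc, mul_eq_right,
    P.bracket_inv_left ha.1 (inv_mem heA.1), P.bracket_inv_right ha.1 heA.1, hae, inv_one, inv_one,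
    one_mul, P.bracket_inv_left ha.1 hdQ, P.bracket_inv_right hq heA.1,
    inv_mul_eq_one] at h
  rw [h, commutatorElement_inv]

theorem exists_compl : ∃ U : Subgroup G, U ≤ P.Cz ∧ Nat.card U = 27 ∧ U ⊓ P.D = ⊥ := by
  obtain ⟨t, ht, ht2, hty, htQ⟩ := P.symm.exists_t'
  rw [P.symm_z] at hty
  rw [P.symm_Q, P.symm_y] at htQ
  have htz : t * P.z = P.z * t := by
    have h : t * P.symm.y = P.symm.y * t := mem_centralizer_singleton_iff.1 ht
    rwa [P.symm_y] at h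
  have htC : t ∈ P.Cz := P.mem_Cz.2 htz
  have ht1 : t ≠ 1 := fun h => by
    rw [h, one_mul, inv_one, mul_one, eq_inv_iff_mul_eq_one] at hty
    exact P.not_mem_of_sq P.y_ne P.y_mem (hty ▸ one_mem _)
  have htt : ∀ x : G, t * (t * x * t⁻¹) * t⁻¹ = x := fun x => by
    calc t * (t * x * t⁻¹) * t⁻¹ = (t * t) * x * (t * t)⁻¹ := by group
      _ = x := by rw [ht2]; group
  have htfix : ∀ c ∈ zpowers P.z, t * c * t⁻¹ = c := fun c hc => P.conj_z_mem htC hc
  -- inverted representatives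
  have rep : ∀ q ∈ P.Q, ∃ c ∈ zpowers P.z, t * (q * c) * t⁻¹ = (q * c)⁻¹ := by
    intro q hq
    have hc := htQ q hq
    refine ⟨_, hc, ?_⟩
    set c := t * q * t⁻¹ * q
    rw [show t * (q * c) * t⁻¹ = t * q * t⁻¹ * (t * c * t⁻¹) by group, htfix c hc,
      show t * q * t⁻¹ = c * q⁻¹ by simp only [c]; group, mul_inv_rev, mul_assoc,
      (P.commute_zpow (inv_mem (P.Q_le hq)) hc).eq, ← mul_assoc, P.inv_sq (P.Z_le_Q hc)]
  have tB : ∀ x ∈ P.B, t * x * t⁻¹ ∈ P.B := fun x hx => mem_inf.2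
    ⟨P.C'.normQ (Or.inr hty) hx.1, mul_mem (mul_mem htC (P.B_Cz hx)) (inv_mem htC)⟩
  -- an element of `B` outside `Q` commuting with `t`
  obtain ⟨b, hb, hbQ⟩ := P.exists_b
  set δ := b⁻¹ * (t * b * t⁻¹) with hδ
  have hδB : δ ∈ P.B := mul_mem (inv_mem hb) (tB b hb)
  have hδQ : δ ∈ P.Q := (P.pi_ker (⟨b, P.B_Cz hb⟩⁻¹ * (⟨t, htC⟩ * ⟨b, P.B_Cz hb⟩ * ⟨t, htC⟩⁻¹))).1 (by
    simp only [map_mul, map_inv]
    rw [P.pi_inv htC ht2 ht1, ← HeisSLThree.neg_one_central, mul_inv_cancel_right, inv_mul_cancel])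
  have hδD : δ ∈ P.D := mem_inf.2 ⟨mem_inf.2 ⟨hδQ, P.B_C' hδB⟩, hδB⟩
  have hδt : t * δ * t⁻¹ = δ⁻¹ := by
    rw [hδ, show t * (b⁻¹ * (t * b * t⁻¹)) * t⁻¹ = (t * b * t⁻¹)⁻¹ * (t * (t * b * t⁻¹) * t⁻¹) by group,
      htt]
    group
  set r := b * δ⁻¹ with hr
  have hrB : r ∈ P.B := mul_mem hb (inv_mem hδB)
  have hrQ : r ∉ P.Q := fun h => hbQ (by simpa [hr] using mul_mem h hδQ)
  have hrC := P.B_Cz hrB
  have hrt : t * r * t⁻¹ = r := by
    rw [hr, show t * (b * δ⁻¹) * t⁻¹ = b * δ * (t * δ * t⁻¹)⁻¹ by rw [hδ]; group, hδt, inv_inv,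
      mul_assoc, P.inv_sq hδQ]
  -- an element of `D` moved by `r`
  obtain ⟨d, hd, hrd⟩ := P.C'.exists_noncomm P.D_Q' P.D_comm P.card_D.ge hrB.1 fun h => hrQ (P.D_Q h)
  have hdr : ⁅d, r⁆ ≠ 1 := fun h => hrd (commutatorElement_eq_one_iff_mul_comm.1 h).symm
  -- an element outside `A`
  obtain ⟨q0, hq0, hq0A⟩ : ∃ q ∈ P.Q, q ∉ P.A := SetLike.not_le_iff_exists.1 fun h => by
    have := card_le_of_le h
    rw [P.card_Q, P.card_A] at this
    omega
  have notcomm : ∀ q ∈ P.Q, q ∉ P.A → ⁅⁅d, r⁆, q⁆ ≠ 1 := by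
    intro q hq hqA h
    have hc : Commute q ⁅d, r⁆ := (commutatorElement_eq_one_iff_mul_comm.1 h).symm
    rcases cyclic_three P.y3 (P.bracket_pair hrB hq hd).1 with e | e | e
    · exact hdr e
    · exact hqA (mem_inf.2 ⟨hq, mem_centralizer_singleton_iff.2 (e ▸ hc).eq⟩)
    · exact hqA (mem_inf.2 ⟨hq, mem_centralizer_singleton_iff.2 (Commute.inv_right_iff.1 (e ▸ hc)).eq⟩)
  -- move `q0` by an element of `D`
  set a0 := ⁅q0, r⁆ with ha0
  have ha0A := P.bracket_mem_A hrB hq0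
  have hcd : ⁅a0, d⁆ ≠ 1 := (P.bracket_pair hrB hq0 hd).2 ▸ notcomm q0 hq0 hq0A
  have hda : ⁅d, a0⁆ ≠ 1 := fun h => hcd (by rw [← commutatorElement_inv, h, inv_one])
  set κ := ⁅a0, q0⁆
  have hκ : κ ∈ zpowers P.z := P.comm_mem _ ha0A.1 _ hq0
  obtain ⟨p, hp, hpa⟩ : ∃ p ∈ P.D, ⁅a0, p⁆ = κ := by
    have hgen : zpowers ⁅d, a0⁆ = zpowers P.z := by
      rcases P.z_cases (P.comm_mem _ (P.D_Q hd) _ ha0A.1) with h | h | h
      · exact absurd h hda
      · rw [h]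
      · rw [h, zpowers_inv]
    obtain ⟨n, hn⟩ := mem_zpowers_iff.1 (hgen ▸ inv_mem hκ)
    refine ⟨d ^ n, zpow_mem hd n, ?_⟩
    have e := congrArg Subtype.val (map_zpow (P.bracketHom ha0A.1) ⟨d, P.D_Q hd⟩ n)
    have e' : ⁅d ^ n, a0⁆ = ⁅d, a0⁆ ^ n := by simpa [Conf.bracketHom] using e
    rw [← commutatorElement_inv, e', hn, inv_inv]
  set q1 := q0 * p with hq1
  have hq1Q : q1 ∈ P.Q := mul_mem hq0 (P.D_Q hp)
  obtain ⟨hep, hpair⟩ := P.bracket_pair hrB hq0 hp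
  set ep := ⁅p, r⁆ with hep'
  have hepA : ep ∈ P.A := (zpowers_le.2 P.y_A) hep
  have hepD : ep ∈ P.D := (zpowers_le.2 P.y_D) hep
  have hζ := P.comm_mem q0 hq0 ep hepA.1
  have e1 : ⁅q1, r⁆ = ⁅q0, ep⁆ * (ep * a0) := by
    rw [hq1, hep', ha0]; simp only [commutatorElement_def]; group
  have hkey : ⁅⁅q1, r⁆, q1⁆ = 1 := by
    rw [e1, P.bracket_mul_left (P.Z_le_Q hζ) (mul_mem hepA.1 ha0A.1) hq1Q,
      P.bracket_central hζ (P.Q_le hq1Q), one_mul, P.bracket_mul_left hepA.1 ha0A.1 hq1Q, hq1,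
      P.bracket_mul_right hepA.1 hq0 (P.D_Q hp), P.bracket_mul_right ha0A.1 hq0 (P.D_Q hp),
      commutatorElement_eq_one_iff_mul_comm.2 (P.D_comm _ hepD _ hp), mul_one, hpair, hpa,
      ← mul_assoc, P.cube (P.Z_le_Q hκ)]
  obtain ⟨c1, hc1, hq⟩ := rep q1 hq1Q
  set q := q1 * c1
  have hqQ : q ∈ P.Q := mul_mem hq1Q (P.Z_le_Q hc1)
  have ha : ⁅q, r⁆ = ⁅q1, r⁆ := by
    simp only [q, commutatorElement_def, mul_inv_rev]
    calc q1 * c1 * r * (c1⁻¹ * q1⁻¹) * r⁻¹ = q1 * (c1 * r) * c1⁻¹ * q1⁻¹ * r⁻¹ := by group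
      _ = _ := by rw [← (P.commute_zpow hrC hc1).eq]; group
  set a := ⁅q, r⁆ with ha'
  have haA : a ∈ P.A := P.bracket_mem_A hrB hqQ
  have haq : Commute a q := commutatorElement_eq_one_iff_mul_comm.1 (by
    rw [P.bracket_mul_right haA.1 hq1Q (P.Z_le_Q hc1), ha, hkey, one_mul, ← commutatorElement_inv,
      P.bracket_central hc1 (P.Q_le (ha ▸ haA.1)), inv_one])
  have hqA : q ∉ P.A := fun h => hq0A (by
    have := mul_mem h (inv_mem (mul_mem (P.D_A hp) ((zpowers_le.2 P.z_A) hc1)))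
    simpa [q, hq1, mul_assoc] using this)
  have haD : a ∉ P.D := fun h => by
    refine notcomm q hqQ hqA ?_
    rw [(P.bracket_pair hrB hqQ hd).2]
    exact commutatorElement_eq_one_iff_mul_comm.2 (P.D_comm _ h _ hd)
  have hta : t * a * t⁻¹ = a⁻¹ := by
    rw [ha', show t * ⁅q, r⁆ * t⁻¹ = ⁅t * q * t⁻¹, t * r * t⁻¹⁆ by
      simp only [commutatorElement_def]; group, hq, hrt,
      show ⁅q⁻¹, r⁆ = q⁻¹ * ⁅q, r⁆⁻¹ * q by simp only [commutatorElement_def]; group, ← ha',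
      mul_assoc, haq.inv_left.eq, inv_mul_cancel_left]
  -- `r` commutes with `a`
  have hra : Commute r a := by
    set f := ⁅r, a⁆ with hf
    have hfA : f ∈ P.A := by
      rw [hf, ← commutatorElement_inv]; exact inv_mem (P.bracket_mem_A hrB haA.1)
    have hfB : f ∈ P.B := by
      rw [hf, show ⁅r, a⁆ = r * (a * r⁻¹ * a⁻¹) by rw [commutatorElement_def]; group]
      exact mul_mem hrB (mem_inf.2 ⟨P.C'.conjQ (P.A_C' haA) (inv_mem hrB.1),
        mul_mem (mul_mem (P.A_Cz haA) (inv_mem hrC)) (inv_mem (P.A_Cz haA))⟩)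
    have hfD : f ∈ P.D := mem_inf.2 ⟨hfA, hfB⟩
    set g := ⁅r, f⁆ with hg
    have hgy : g ∈ zpowers P.y := P.C'.comm_mem r hrB.1 f hfB.1
    have hgA : g ∈ P.A := (zpowers_le.2 P.y_A) hgy
    have hg1 : g = 1 := by
      refine P.inter_zy ?_ hgy
      have s1 : r * q * r⁻¹ = a⁻¹ * q := by rw [ha']; simp only [commutatorElement_def]; group
      have s2 : r * a⁻¹ * r⁻¹ = a⁻¹ * f⁻¹ := by rw [hf]; simp only [commutatorElement_def]; group
      have s3 : r * f⁻¹ * r⁻¹ = f⁻¹ * g⁻¹ := by rw [hg]; simp only [commutatorElement_def]; group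
      have hr3 : r * r * r = 1 := by rw [← P.b3 hrB, pow_succ, pow_two]
      have h : a⁻¹ * f⁻¹ * (f⁻¹ * g⁻¹) * (a⁻¹ * f⁻¹) * a⁻¹ = 1 := by
        refine mul_right_cancel (b := q) ?_
        rw [one_mul]
        calc a⁻¹ * f⁻¹ * (f⁻¹ * g⁻¹) * (a⁻¹ * f⁻¹) * a⁻¹ * q
            = (r * a⁻¹ * r⁻¹) * (r * f⁻¹ * r⁻¹) * (r * a⁻¹ * r⁻¹) * (r * q * r⁻¹) := by
              rw [s1, s2, s3]; group
          _ = r * ((a⁻¹ * f⁻¹) * (a⁻¹ * q)) * r⁻¹ := by group
          _ = r * ((r * a⁻¹ * r⁻¹) * (r * q * r⁻¹)) * r⁻¹ := by rw [s1, s2]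
          _ = r * r * (a⁻¹ * q) * (r * r)⁻¹ := by group
          _ = (r * r * r) * q * (r * r * r)⁻¹ := by rw [← s1]; group
          _ = q := by rw [hr3]; group
      have cg : ∀ {x : G}, x ∈ P.A → Commute g⁻¹ x := fun {x} hx => by
        rcases cyclic_three P.y3 hgy with e | e | e <;> rw [e]
        · simp
        · exact (P.comm_ay hx).symm.inv_left
        · rw [inv_inv]; exact (P.comm_ay hx).symm
      have hX : g = a⁻¹ * f⁻¹ * f⁻¹ * (a⁻¹ * f⁻¹) * a⁻¹ := by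
        have e : a⁻¹ * f⁻¹ * (f⁻¹ * g⁻¹) * (a⁻¹ * f⁻¹) * a⁻¹ =
            a⁻¹ * f⁻¹ * f⁻¹ * (a⁻¹ * f⁻¹) * a⁻¹ * g⁻¹ := by
          calc a⁻¹ * f⁻¹ * (f⁻¹ * g⁻¹) * (a⁻¹ * f⁻¹) * a⁻¹
              = a⁻¹ * f⁻¹ * f⁻¹ * (g⁻¹ * (a⁻¹ * f⁻¹ * a⁻¹)) := by group
            _ = _ := by rw [(cg (mul_mem (mul_mem (inv_mem haA) (inv_mem hfA)) (inv_mem haA))).eq]; group
        rw [e, mul_inv_eq_one] at h
        exact h.symm
      rw [hX, show a⁻¹ * f⁻¹ * f⁻¹ * (a⁻¹ * f⁻¹) * a⁻¹ =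
        ⁅a⁻¹, f⁻¹⁆ * ((f⁻¹ * a⁻¹) * (f⁻¹ * a⁻¹) * (f⁻¹ * a⁻¹)) by
          simp only [commutatorElement_def]; group,
        P.cube (mul_mem (inv_mem hfA.1) (inv_mem haA.1)), mul_one]
      exact P.comm_mem _ (inv_mem haA.1) _ (inv_mem hfA.1)
    have hrf : Commute r f := commutatorElement_eq_one_iff_mul_comm.1 hg1
    set L := zpowers P.z ⊔ zpowers P.y
    have hLD : L ≤ P.D := sup_le (zpowers_le.2 P.z_D) (zpowers_le.2 P.y_D)
    have hdL : d ∉ L := fun h => hrd (P.comm_mem_zy hrB h)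
    have eD : P.D = L ⊔ zpowers d := (eq_of_le_of_card_ge (sup_le hLD (zpowers_le.2 hd)) (by
      rw [P.card_D, (P.card_adjoin (hLD.trans P.D_Q) (mem_sup_left (mem_zpowers _)) (P.D_Q hd)).2 hdL,
        P.card_zy P.y_mem P.y_ne])).symm
    have hfL : f ∈ L := by
      obtain ⟨l, hl, e | e | e⟩ := P.mem_adjoin (hLD.trans P.D_Q) (mem_sup_left (mem_zpowers _))
        (P.D_Q hd) (eD ▸ hfD)
      · exact e ▸ hl
      · exact absurd (show Commute r d by
          have := (P.comm_mem_zy hrB hl).inv_right.mul_right hrf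
          rwa [e, inv_mul_cancel_left] at this) hrd
      · exact absurd (show Commute r d by
          have := ((P.comm_mem_zy hrB hl).inv_right.mul_right hrf).inv_right
          rwa [e, inv_mul_cancel_left, inv_inv] at this) hrd
    have hfz : f ∈ zpowers P.z := by
      obtain ⟨c, hc, e⟩ := P.mem_line P.y_mem hfL
      have haf : ⁅a, f⁆ = 1 := commutatorElement_eq_one_iff_mul_comm.2 (by
        have hl : L ≤ centralizer ({a} : Set G) :=
          sup_le (zpowers_le.2 (mem_centralizer_singleton_iff.2 (P.commute_z (P.A_Cz haA)).eq.symm))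
            (zpowers_le.2 (mem_centralizer_singleton_iff.2 (P.comm_ay haA).eq.symm))
        exact (mem_centralizer_singleton_iff.1 (hl hfL)).symm)
      have h := P.bracket_conj hrC hqQ haA.1
      rw [show r * q * r⁻¹ = a⁻¹ * q by rw [ha']; simp only [commutatorElement_def]; group,
        show r * a * r⁻¹ = f * a by rw [hf]; simp only [commutatorElement_def]; group,
        P.bracket_mul_left (inv_mem haA.1) hqQ (mul_mem hfA.1 haA.1),
        P.bracket_mul_right (inv_mem haA.1) hfA.1 haA.1, P.bracket_mul_right hqQ hfA.1 haA.1,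
        P.bracket_inv_left haA.1 hfA.1, P.bracket_inv_left haA.1 haA.1, haf, commutatorElement_self,
        inv_one, one_mul, one_mul, commutatorElement_eq_one_iff_mul_comm.2 haq.symm.eq, mul_one] at h
      have hqf : Commute q f := commutatorElement_eq_one_iff_mul_comm.1 h
      have hcq : Commute q c := P.commute_zpow (P.Q_le hqQ) hc
      rcases e with e | e | e
      · exact e ▸ hc
      · exact absurd (mem_inf.2 ⟨hqQ, mem_centralizer_singleton_iff.2 (show Commute q P.y by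
          have := hcq.inv_right.mul_right hqf
          rwa [e, inv_mul_cancel_left] at this).eq⟩) hqA
      · exact absurd (mem_inf.2 ⟨hqQ, mem_centralizer_singleton_iff.2 (show Commute q P.y by
          have := (hcq.inv_right.mul_right hqf).inv_right
          rwa [e, inv_mul_cancel_left, inv_inv] at this).eq⟩) hqA
    have hf1 : f = f⁻¹ := by
      calc f = t * f * t⁻¹ := (htfix f hfz).symm
        _ = ⁅r, a⁻¹⁆ := by
            rw [hf, show t * ⁅r, a⁆ * t⁻¹ = ⁅t * r * t⁻¹, t * a * t⁻¹⁆ by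
              simp only [commutatorElement_def]; group, hrt, hta]
        _ = a⁻¹ * f⁻¹ * a := by rw [hf]; simp only [commutatorElement_def]; group
        _ = f⁻¹ := by
            rw [((P.commute_zpow (P.A_Cz haA) hfz).inv_inv).eq, inv_mul_cancel_right]
    have h3 := P.cube hfA.1
    rw [eq_inv_iff_mul_eq_one] at hf1
    rw [hf1, one_mul] at h3
    exact commutatorElement_eq_one_iff_mul_comm.1 h3
  -- the subgroup
  obtain ⟨φ, hφ⟩ := HeisSLThree.exists_hom (a := r) (b := q) (c := a⁻¹) (P.b3 hrB) (P.exp_Q q hqQ)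
    (P.exp_Q _ (inv_mem haA.1)) hra.inv_right haq.symm.inv_right
    (by rw [ha']; simp only [commutatorElement_def]; group)
  have hmem : ∀ x, φ x ∈ P.Cz := fun ⟨v, s⟩ => by
    rw [hφ]
    exact mul_mem (mul_mem (pow_mem hrC _) (pow_mem (P.Q_le hqQ) _)) (pow_mem (inv_mem (P.A_Cz haA)) _)
  have hkill : ∀ x, φ x ∈ P.D → x = 1 := by
    rintro ⟨v, s⟩ h
    rw [hφ] at h
    set k := v 0 * v 1 + s with hk
    have hQ2 : pw q (v 1) * pw a⁻¹ k ∈ P.Q := P.Q.mul_mem (P.Q.pow_mem hqQ _) (P.Q.pow_mem (P.Q.inv_mem haA.1) _)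
    have hrk : pw r (v 0) ∈ P.Q := by
      rw [mul_assoc] at h
      exact (mul_mem_cancel_right hQ2).1 (P.D_Q h)
    have hv0 : v 0 = 0 := by
      by_contra hne
      have h2 : (v 0).val = 1 ∨ (v 0).val = 2 := by
        have := ZMod.val_lt (v 0)
        have : (v 0).val ≠ 0 := fun e => hne ((ZMod.val_eq_zero _).1 e)
        omega
      rcases h2 with e | e <;> rw [pw, e] at hrk
      · exact hrQ (by simpa using hrk)
      · refine hrQ ?_
        have : r = (r ^ 2)⁻¹ := eq_inv_of_mul_eq_one_left (by rw [← pow_succ']; exact P.b3 hrB)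
        rw [this]; exact inv_mem hrk
    rw [hv0, HeisSLThree.pw_zero, one_mul] at h
    have hqk : pw q (v 1) ∈ P.A :=
      (mul_mem_cancel_right (show pw a⁻¹ k ∈ P.A from pow_mem (inv_mem haA) _)).1 (P.D_A h)
    have hv1 : v 1 = 0 := by
      by_contra hne
      have h2 : (v 1).val = 1 ∨ (v 1).val = 2 := by
        have := ZMod.val_lt (v 1)
        have : (v 1).val ≠ 0 := fun e => hne ((ZMod.val_eq_zero _).1 e)
        omega
      rcases h2 with e | e <;> rw [pw, e] at hqk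
      · exact hqA (by simpa using hqk)
      · refine hqA ?_
        rw [show q = (q ^ 2)⁻¹ from eq_inv_of_mul_eq_one_left (by rw [← pow_succ']; exact P.exp_Q q hqQ)]
        exact inv_mem hqk
    rw [hv1, HeisSLThree.pw_zero, one_mul] at h
    have hk0 : k = 0 := by
      by_contra hne
      have h2 : k.val = 1 ∨ k.val = 2 := by
        have := ZMod.val_lt k
        have : k.val ≠ 0 := fun e => hne ((ZMod.val_eq_zero _).1 e)
        omega
      rcases h2 with e | e <;> rw [pw, e] at h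
      · exact haD (inv_mem_iff.1 (by simpa using h))
      · refine haD ?_
        rw [show a = (a⁻¹ ^ 2) by rw [pow_two, P.cube_inv haA.1]]
        exact h
    have hs : s = 0 := by simpa [hk, hv0, hv1] using hk0
    refine HeisSLThree.Hs.ext (funext fun i => ?_) hs
    fin_cases i
    exacts [hv0, hv1]
  have hinj : Function.Injective φ := (injective_iff_map_eq_one φ).2 fun x hx =>
    hkill x (hx ▸ one_mem _)
  refine ⟨φ.range, ?_, ?_, ?_⟩
  · rintro _ ⟨x, rfl⟩; exact hmem x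
  · rw [← Nat.card_congr (MonoidHom.ofInjective hinj).toEquiv, HeisSLThree.card_hs]
  · rw [eq_bot_iff]
    rintro _ ⟨⟨x, rfl⟩, hx⟩
    rw [hkill x hx, map_one]
    exact one_mem _

end Pair

end Cfsg.Agent.L43Three
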