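import Cfsg.Agent.Lib.L43Three.Affine
import Cfsg.Agent.Lib.L43Three.Fast

/-!
S3373: the local configuration in coordinates, and which elements of `Q` are conjugate to `z`.
-/

set_option autoImplicit false
set_option linter.style.haveILetI false
set_option linter.unusedSectionVars false
set_option maxRecDepth 20000
set_option synthInstance.maxSize 2000
set_option maxHeartbeats 1000000

namespace Cfsg.Agent.L43Three

open Subgroup
open scoped commutatorElement
open WreathChar (Z3)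

namespace A3

/-- The element corresponding to `z`. -/
def Z0 : A3 := tr .o .z .z

/-- The elements of `Q`. -/
def qel (b c x y w : Z3) : A3 := fix1 b c .o .z .z .o x y w

/-- The transvection of the second root. -/
def eA : A3 := upper .o .z .z .z .z .z

/-- Generators of the centraliser of `Z0`. -/
def cgens : List A3 := [fix1 .z .z .z .o .d .d .z .z .z, fix1 .z .z .z .d .o .d .z .z .z,
  fix1 .z .z .o .z .o .o .z .z .z]

theorem qel_moved : ∀ b c x y w : Z3, ¬ (b = .z ∧ c = .z) → ¬ (y = .z ∧ w = .z) →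
    ∃ g ∈ cgens, g * g * g = 1 ∧ g * Z0 = Z0 * g ∧
      g * qel b c x y w * (g * g) * qel b c x y w ≠ qel b c x y w * (g * qel b c x y w * (g * g)) := by
  decide +kernel

theorem col_eq : ∀ a b c x y w : Z3,
    True ∧
    (x.add (((Z3.mul a .o).add (Z3.mul b .z)).add (Z3.mul c .z)) =
      Z3.o.add (((Z3.mul .o x).add (Z3.mul .z y)).add (Z3.mul .z w)) → a = .o) ∧
    (y.add (((Z3.mul a .o).add (Z3.mul b .z)).add (Z3.mul c .z)) =
      Z3.z.add (((Z3.mul .z x).add (Z3.mul .o y)).add (Z3.mul .z w)) → a = .z) ∧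
    (w.add (((Z3.mul a .o).add (Z3.mul b .z)).add (Z3.mul c .z)) =
      Z3.z.add (((Z3.mul .z x).add (Z3.mul .z y)).add (Z3.mul .o w)) → a = .z) ∧
    (y.add (((Z3.mul .z .z).add (Z3.mul b .o)).add (Z3.mul c .z)) =
      Z3.o.add (((Z3.mul .z x).add (Z3.mul .o y)).add (Z3.mul .z w)) → b = .o) ∧
    (w.add (((Z3.mul .z .z).add (Z3.mul b .o)).add (Z3.mul c .z)) =
      Z3.z.add (((Z3.mul .z x).add (Z3.mul .z y)).add (Z3.mul .o w)) → b = .z) ∧
    (y.add (((Z3.mul .z .z).add (Z3.mul b .z)).add (Z3.mul c .o)) =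
      Z3.z.add (((Z3.mul .z x).add (Z3.mul .o y)).add (Z3.mul .z w)) → c = .z) ∧
    (w.add (((Z3.mul .z .z).add (Z3.mul b .z)).add (Z3.mul c .o)) =
      Z3.o.add (((Z3.mul .z x).add (Z3.mul .z y)).add (Z3.mul .o w)) → c = .o) := by decide +kernel

theorem qel_fix_tr (b c e f h i k x y w : Z3) :
    (fix1 b c e f h i x y w * tr .z .o .z = tr k .o .z * fix1 b c e f h i x y w → e = .o ∧ h = .z) ∧
    (fix1 b c e f h i x y w * tr .z .z .o = tr k .z .o * fix1 b c e f h i x y w → f = .z ∧ i = .o) := by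
  refine ⟨fun hh => ?_, fun hh => ?_⟩
  · exact ⟨(col_eq .z e f x y w).2.2.2.2.1 (congrArg A3.y hh),
      (col_eq .z h i x y w).2.2.2.2.2.1 (congrArg A3.w hh)⟩
  · exact ⟨(col_eq .z e f x y w).2.2.2.2.2.2.1 (congrArg A3.y hh),
      (col_eq .z h i x y w).2.2.2.2.2.2.2 (congrArg A3.w hh)⟩

theorem fix_of_comm (a d g : Z3) (p : A3) (ha : p.a = a) (hd : p.d = d) (hg : p.g = g)
    (h : p * Z0 = Z0 * p) : a = .o ∧ d = .z ∧ g = .z := by
  subst ha hd hg
  exact ⟨(col_eq p.a p.b p.c p.x p.y p.w).2.1 (congrArg A3.x h),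
    (col_eq p.d p.e p.f p.x p.y p.w).2.2.1 (congrArg A3.y h),
    (col_eq p.g p.h p.i p.x p.y p.w).2.2.2.1 (congrArg A3.w h)⟩

theorem eq_fix1 {p : A3} (h : p * Z0 = Z0 * p) :
    p = fix1 p.b p.c p.e p.f p.h p.i p.x p.y p.w := by
  obtain ⟨ha, hd, hg⟩ := fix_of_comm _ _ _ p rfl rfl rfl h
  cases p
  simp only [fix1] at *
  subst ha hd hg
  rfl

end A3

/-- The configuration in coordinates. -/
structure Loc (G : Type*) [Group G] [Finite G] extends Conf G where
  /-- the affine normaliser -/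
  iota : Aff →* G
  iota_inj : Function.Injective iota
  z_eq : iota (trans (e 0)) = z
  cz_le : centralizer ({z} : Set G) ≤ iota.range
  norm_eq : normalizer (((iota.comp trans).range : Subgroup G) : Set G) = iota.range
  trans_pure : ∀ v, v ≠ 1 → ∃ n : Aff, iota n * z * (iota n)⁻¹ = iota (trans v)
  not_dvd : ¬ 3 ^ 7 ∣ Nat.card G

/-- The coordinates from a pair. -/
theorem Pair.exists_loc {G : Type*} [Group G] [Finite G] (P : Pair G) (hd : ¬ 3 ^ 7 ∣ Nat.card G) :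
    ∃ L : Loc G, L.toConf = P.toConf := by
  obtain ⟨ι, hinj, hr, hD, hz, -⟩ := P.exists_affine
  have e : (ι.comp trans).range = P.D := by
    ext x
    exact (hD x).symm
  refine ⟨⟨P.toConf, ι, hinj, hz, hr.symm ▸ P.Cz_le_normalizer, by rw [e, hr], fun v hv => ?_, hd⟩, rfl⟩
  have h1 : ι (trans v) ≠ 1 := fun h =>
    hv (SemidirectProduct.inl_injective ((hinj (h.trans (map_one ι).symm)).trans (map_one trans).symm))
  obtain ⟨n, hn, hnz⟩ := P.trans_D ((hD _).2 ⟨v, rfl⟩) h1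
  rw [← hr] at hn
  obtain ⟨m, rfl⟩ := hn
  exact ⟨m, hnz⟩

namespace Loc

variable {G : Type*} [Group G] [Finite G] (L : Loc G)
include L

/-- The element of a tuple. -/
def el (p : A3) : G := L.iota p.toAff

/-- Conjugate to `z`. -/
def Pure (g : G) : Prop := IsConj L.z g

theorem el_mul {p q : A3} (hp : p.det = .o) (hq : q.det = .o) : L.el (p * q) = L.el p * L.el q := by
  rw [el, A3.toAff_mul hp hq, map_mul]
  rfl

theorem el_one : L.el 1 = 1 := by rw [el, A3.toAff_one, map_one]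

theorem el_inj {p q : A3} (hp : p.det = .o) (hq : q.det = .o) (h : L.el p = L.el q) : p = q :=
  A3.toAff_inj hp hq (L.iota_inj h)

theorem exists_el {g : G} (hg : g ∈ L.iota.range) : ∃ p : A3, p.det = .o ∧ L.el p = g := by
  obtain ⟨a, rfl⟩ := hg
  obtain ⟨p, hp, rfl⟩ := A3.exists_rep a
  exact ⟨p, hp, rfl⟩

theorem el_mem (p : A3) : L.el p ∈ L.iota.range := ⟨_, rfl⟩

theorem el_comm {p q : A3} (hp : p.det = .o) (hq : q.det = .o) :
    Commute (L.el p) (L.el q) ↔ p * q = q * p := by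
  constructor
  · intro h
    refine L.el_inj (A3.det_mul hp hq) (A3.det_mul hq hp) ?_
    rw [L.el_mul hp hq, L.el_mul hq hp, h.eq]
  · intro h
    show L.el p * L.el q = L.el q * L.el p
    rw [← L.el_mul hp hq, h, L.el_mul hq hp]

theorem el_conj {c p r : A3} (hc : c.det = .o) (hp : p.det = .o) (hr : r.det = .o)
    (h : c * p = r * c) : L.el r = L.el c * L.el p * (L.el c)⁻¹ := by
  rw [← L.el_mul hc hp, h, L.el_mul hr hc, mul_inv_cancel_right]

theorem el_tr (x y w : Z3) : L.el (A3.tr x y w) = L.iota (trans (.ofAdd ![x.toZ, y.toZ, w.toZ])) := by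
  refine congrArg L.iota (SemidirectProduct.ext ?_ (Subtype.ext ?_))
  · rw [A3.toAff_left rfl]; rfl
  · rw [A3.toAff_right rfl]
    ext i j
    fin_cases i <;> fin_cases j <;> rfl

theorem el_Z0 : L.el A3.Z0 = L.z := by
  rw [A3.Z0, L.el_tr, ← L.z_eq]
  congr 2
  refine congrArg Multiplicative.ofAdd (funext fun i => ?_)
  fin_cases i <;> rfl

theorem el_mem_Cz {p : A3} (hp : p.det = .o) (h : p * A3.Z0 = A3.Z0 * p) : L.el p ∈ L.Cz := by
  refine L.mem_Cz.2 ?_
  rw [← L.el_Z0]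
  exact ((L.el_comm hp rfl).2 h).eq

theorem exists_fix {g : G} (hg : g ∈ L.Cz) :
    ∃ b c e f h i x y w : Z3, (A3.fix1 b c e f h i x y w).det = .o ∧
      L.el (A3.fix1 b c e f h i x y w) = g := by
  obtain ⟨p, hp, rfl⟩ := L.exists_el (L.cz_le hg)
  have h : p * A3.Z0 = A3.Z0 * p := by
    refine (L.el_comm hp rfl).1 ?_
    rw [L.el_Z0]
    exact L.mem_Cz.1 hg
  have e := A3.eq_fix1 h
  exact ⟨_, _, _, _, _, _, _, _, _, e ▸ hp, e ▸ rfl⟩

theorem el_tr_mem (x y w : Z3) : L.el (A3.tr x y w) ∈ (L.iota.comp trans).range :=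
  ⟨.ofAdd ![x.toZ, y.toZ, w.toZ], (L.el_tr x y w).symm⟩

theorem tr_Q (x y w : Z3) : L.el (A3.tr x y w) ∈ L.Q := by
  -- translations centralise `z` and form an abelian normal subgroup of its centraliser
  have hc : L.el (A3.tr x y w) ∈ L.Cz :=
    L.el_mem_Cz rfl ((by decide +kernel : ∀ x y w : Z3, A3.tr x y w * A3.Z0 = A3.Z0 * A3.tr x y w) x y w)
  have h3 : L.el (A3.tr x y w) * L.el (A3.tr x y w) * L.el (A3.tr x y w) = 1 := by
    rw [← L.el_mul rfl rfl, ← L.el_mul (A3.det_mul rfl rfl) rfl,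
      (by decide +kernel : ∀ x y w : Z3, A3.tr x y w * A3.tr x y w * A3.tr x y w = 1) x y w, L.el_one]
  refine (L.pi_ker ⟨_, hc⟩).1 (sl_no_normal_three _ ?_ ?_)
  · rw [← map_mul, ← map_mul, show (⟨_, hc⟩ * ⟨_, hc⟩ * ⟨_, hc⟩ : L.Cz) = 1 from Subtype.ext h3, map_one]
  · intro u
    obtain ⟨⟨c, hcc⟩, rfl⟩ := L.pi_surj u
    have hmem : c * L.el (A3.tr x y w) * c⁻¹ ∈ (L.iota.comp trans).range := by
      have hn : c ∈ normalizer (((L.iota.comp trans).range : Subgroup G) : Set G) := by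
        rw [L.norm_eq]; exact L.cz_le hcc
      exact (mem_normalizer_iff.1 hn _).1 (L.el_tr_mem x y w)
    obtain ⟨v, hv⟩ := hmem
    rw [← map_inv, ← map_mul, ← map_mul, ← map_mul, ← map_mul]
    refine congrArg L.pi (Subtype.ext ?_)
    show c * L.el (A3.tr x y w) * c⁻¹ * L.el (A3.tr x y w) =
      L.el (A3.tr x y w) * (c * L.el (A3.tr x y w) * c⁻¹)
    rw [← hv, L.el_tr, MonoidHom.comp_apply, ← map_mul, ← map_mul, ← map_mul, ← map_mul, mul_comm v]

/-- `Q` in coordinates. -/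
theorem mem_Q {g : G} : g ∈ L.Q ↔ ∃ b c x y w : Z3, L.el (A3.qel b c x y w) = g := by
  have hle : (L.Q : Set G) ⊆ Set.range (fun p : Z3 × Z3 × Z3 × Z3 × Z3 =>
      L.el (A3.qel p.1 p.2.1 p.2.2.1 p.2.2.2.1 p.2.2.2.2)) := by
    intro g hg
    obtain ⟨b, c, e, f, h, i, x, y, w, hd, he⟩ := L.exists_fix (L.Q_le hg)
    have step : ∀ y0 w0 : Z3, ∃ k : Z3, A3.fix1 b c e f h i x y w * A3.tr .z y0 w0 =
        A3.tr k y0 w0 * A3.fix1 b c e f h i x y w := by
      intro y0 w0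
      have hm := L.comm_mem g hg _ (L.tr_Q .z y0 w0)
      obtain ⟨k, hk⟩ : ∃ k : Z3, L.el (A3.tr k .z .z) =
          ⁅g, L.el (A3.tr .z y0 w0)⁆ := by
        rcases L.z_cases hm with e1 | e1 | e1 <;> rw [e1]
        · exact ⟨.z, L.el_one⟩
        · exact ⟨.o, L.el_Z0⟩
        · refine ⟨.d, eq_inv_of_mul_eq_one_left ?_⟩
          rw [← L.el_Z0, ← L.el_mul rfl rfl,
            (by decide +kernel : A3.tr .d .z .z * A3.Z0 = 1), L.el_one]
      refine ⟨k, L.el_inj (A3.det_mul hd rfl) (A3.det_mul rfl hd) ?_⟩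
      rw [L.el_mul hd rfl, L.el_mul rfl hd, he,
        show A3.tr k y0 w0 = A3.tr k .z .z * A3.tr .z y0 w0 from
          ((by decide +kernel : ∀ k y0 w0 : Z3, A3.tr k y0 w0 = A3.tr k .z .z * A3.tr .z y0 w0) k y0 w0),
        L.el_mul rfl rfl, hk, commutatorElement_def]
      group
    obtain ⟨k, hk⟩ := step .o .z
    obtain ⟨k', hk'⟩ := step .z .o
    obtain ⟨rfl, rfl⟩ := (A3.qel_fix_tr b c e f h i k x y w).1 hk
    obtain ⟨rfl, rfl⟩ := (A3.qel_fix_tr b c .o f .z i k' x y w).2 hk'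
    exact ⟨(b, c, x, y, w), he⟩
  have e : (L.Q : Set G) = Set.range (fun p : Z3 × Z3 × Z3 × Z3 × Z3 =>
      L.el (A3.qel p.1 p.2.1 p.2.2.1 p.2.2.2.1 p.2.2.2.2)) := by
    refine Set.eq_of_subset_of_ncard_le hle ?_ (Set.toFinite _)
    rw [show (L.Q : Set G).ncard = Nat.card L.Q from rfl, L.card_Q, ← Nat.card_coe_set_eq]
    refine le_trans (Finite.card_range_le _) ?_
    rw [Nat.card_eq_fintype_card]
    decide
  constructor
  · intro hg
    obtain ⟨⟨b, c, x, y, w⟩, h⟩ := hle hg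
    exact ⟨b, c, x, y, w, h⟩
  · rintro ⟨b, c, x, y, w, rfl⟩
    show _ ∈ (L.Q : Set G)
    rw [e]
    exact ⟨(b, c, x, y, w), rfl⟩

omit L in
theorem qel_det (b c x y w : Z3) : (A3.qel b c x y w).det = .o :=
  (by decide +kernel : ∀ b c x y w : Z3, (A3.qel b c x y w).det = .o) b c x y w

/-- Conjugates of `z` in `Q` lie in the two abelian normal subgroups of order 27. -/
theorem pure_qel {b c x y w : Z3} (h : L.Pure (L.el (A3.qel b c x y w))) :
    (b = .z ∧ c = .z) ∨ (y = .z ∧ w = .z) := by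
  by_contra hne
  push Not at hne
  set p := A3.qel b c x y w with hp
  obtain ⟨g, hg⟩ := isConj_iff.1 h
  have hgQ : g * L.z * g⁻¹ ∈ L.Q := hg ▸ L.mem_Q.2 ⟨b, c, x, y, w, rfl⟩
  have hgz : g * L.z * g⁻¹ ∉ zpowers L.z := by
    rw [hg]
    intro hm
    have key : ∀ b c x y w : Z3, (A3.qel b c x y w = 1 ∨ A3.qel b c x y w = A3.Z0 ∨
        A3.qel b c x y w = A3.Z0 * A3.Z0) → b = .z ∧ c = .z := by decide +kernel
    have hpd : p.det = .o := qel_det b c x y w
    have := key b c x y w (by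
      rcases L.z_cases hm with e | e | e
      · exact Or.inl (L.el_inj hpd rfl (e.trans L.el_one.symm))
      · exact Or.inr (Or.inl (L.el_inj hpd rfl (e.trans L.el_Z0.symm)))
      · refine Or.inr (Or.inr (L.el_inj hpd (A3.det_mul rfl rfl) (e.trans ?_)))
        rw [L.el_mul rfl rfl, L.el_Z0, L.inv_sq L.z_mem])
    exact absurd this.2 (hne.1 this.1)
  let P : Pair G := ⟨L.toConf, g, hgQ, hgz⟩
  have hpD : L.el p ∈ P.D := hg ▸ P.y_D
  obtain ⟨k, hk, hk3, hkz, hne'⟩ := A3.qel_moved b c x y w (fun hh => hne.1 hh.1 hh.2)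
    (fun hh => hne.2 hh.1 hh.2)
  have hkd : k.det = .o := (by decide +kernel : ∀ k ∈ A3.cgens, k.det = .o) k hk
  have hpd : p.det = .o := qel_det b c x y w
  have hrd : (k * p * (k * k)).det = .o := A3.det_mul (A3.det_mul hkd hpd) (A3.det_mul hkd hkd)
  have hconj : L.el (k * p * (k * k)) ∈ P.D := by
    have hinv : L.el k * L.el k = (L.el k)⁻¹ := eq_inv_of_mul_eq_one_left (by
      rw [← L.el_mul hkd hkd, ← L.el_mul (A3.det_mul hkd hkd) hkd, hk3, L.el_one])
    rw [L.el_mul (A3.det_mul hkd hpd) (A3.det_mul hkd hkd), L.el_mul hkd hpd, L.el_mul hkd hkd, hinv]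
    exact P.conj_D (L.el_mem_Cz hkd hkz) hpD
  exact hne' ((L.el_comm hrd hpd).1 (P.D_comm _ hconj _ hpD))

/-- The relation `x ∈ Q_p` is symmetrical on conjugates of `z`. -/
theorem exchange {g : G} (h : g * L.z * g⁻¹ ∈ L.Q) (hne : g * L.z * g⁻¹ ∉ zpowers L.z) :
    g⁻¹ * L.z * g ∈ L.Q := by
  obtain ⟨q, hq, e⟩ := (Pair.mk L.toConf g h hne).z_Q'
  have e' : g * q * g⁻¹ = L.z := e
  rw [← e']
  rwa [show g⁻¹ * (g * q * g⁻¹) * g = q by group]

theorem pure_conj {x : G} (g : G) (h : L.Pure x) : L.Pure (g * x * g⁻¹) :=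
  h.trans (isConj_iff.2 ⟨g, rfl⟩)

theorem pure_tr {x y w : Z3} (h : A3.tr x y w ≠ 1) : L.Pure (L.el (A3.tr x y w)) := by
  obtain ⟨n, hn⟩ := L.trans_pure (.ofAdd ![x.toZ, y.toZ, w.toZ]) (fun hv => h (L.el_inj rfl rfl (by
    rw [L.el_tr, hv, map_one, map_one, L.el_one])))
  exact isConj_iff.2 ⟨_, by rw [L.el_tr]; exact hn⟩

theorem cent_tr {x y w : Z3} (h : A3.tr x y w ≠ 1) :
    centralizer ({L.el (A3.tr x y w)} : Set G) ≤ L.iota.range := by
  obtain ⟨n, hn⟩ := L.trans_pure (.ofAdd ![x.toZ, y.toZ, w.toZ]) (fun hv => h (L.el_inj rfl rfl (by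
    rw [L.el_tr, hv, map_one, map_one, L.el_one])))
  intro g hg
  rw [L.el_tr, ← hn] at hg
  have hc : (L.iota n)⁻¹ * g * L.iota n ∈ L.Cz := by
    have h2 := mem_centralizer_singleton_iff.1 hg
    refine L.mem_Cz.2 ?_
    calc (L.iota n)⁻¹ * g * L.iota n * L.z
        = (L.iota n)⁻¹ * (g * (L.iota n * L.z * (L.iota n)⁻¹)) * L.iota n := by group
      _ = _ := by rw [h2]; group
  have := mul_mem (mul_mem (show L.iota n ∈ L.iota.range from ⟨n, rfl⟩) (L.cz_le hc))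
    (inv_mem (show L.iota n ∈ L.iota.range from ⟨n, rfl⟩))
  rwa [show L.iota n * ((L.iota n)⁻¹ * g * L.iota n) * (L.iota n)⁻¹ = g by group] at this

end Loc

end Cfsg.Agent.L43Three
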