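import Cfsg.Agent.Lib.L43Three.Orbit

/-!
S3373: the normaliser of the subgroup of order 27 is transitive on its nontrivial elements.
-/

set_option autoImplicit false
set_option linter.style.haveILetI false
set_option linter.unusedSectionVars false

namespace Cfsg.Agent.L43Three

open Subgroup
open Cfsg.Agent.HeisSLThree (SL₂)
open scoped commutatorElement

theorem sl_no_normal_three : ∀ v : SL₂, v * v * v = 1 →
    (∀ x : SL₂, x * v * x⁻¹ * v = v * (x * v * x⁻¹)) → v = 1 := by decide +kernel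

theorem conj_back {G : Type*} [Group G] (c y : G) : c⁻¹ * (c * y * c⁻¹) * c⁻¹⁻¹ = y := by group

theorem commute_of_conj_eq {G : Type*} [Group G] {a b y : G} (e : a * y * a⁻¹ = b * y * b⁻¹) :
    a⁻¹ * b * y = y * (a⁻¹ * b) := by
  calc a⁻¹ * b * y = a⁻¹ * (b * y * b⁻¹) * b := by group
    _ = _ := by rw [← e]; group

theorem conj_shift {G : Type*} [Group G] {c d z y w : G} (hdz : d * z * d⁻¹ = w) (hcy : c * y * c⁻¹ = w) :
    c⁻¹ * d * z * (c⁻¹ * d)⁻¹ = y := by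
  calc c⁻¹ * d * z * (c⁻¹ * d)⁻¹ = c⁻¹ * (d * z * d⁻¹) * c := by group
    _ = _ := by rw [hdz, ← hcy]; group

namespace Conf

variable {G : Type*} [Group G] [Finite G] (C : Conf G)
include C

/-- The normaliser of `⟨z⟩` normalises `Q`. -/
theorem normQ {n : G} (hn : n * C.z * n⁻¹ = C.z ∨ n * C.z * n⁻¹ = C.z⁻¹) {q : G} (hq : q ∈ C.Q) :
    n * q * n⁻¹ ∈ C.Q := by
  have hN : ∀ m : G, (m * C.z * m⁻¹ = C.z ∨ m * C.z * m⁻¹ = C.z⁻¹) → ∀ c ∈ C.Cz, m * c * m⁻¹ ∈ C.Cz := by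
    intro m hm c hc
    have h1 := (Commute.conj_iff m).2 (C.commute_z hc)
    rcases hm with hm | hm <;> rw [hm] at h1
    · exact C.mem_Cz.2 h1.eq
    · exact C.mem_Cz.2 (Commute.inv_right_iff.1 h1).eq
  have hn' : n⁻¹ * C.z * n⁻¹⁻¹ = C.z ∨ n⁻¹ * C.z * n⁻¹⁻¹ = C.z⁻¹ := by
    rcases hn with h | h
    · exact Or.inl (by nth_rw 1 [← h]; group)
    · refine Or.inr ?_
      rw [eq_inv_iff_mul_eq_one] at h ⊢
      calc n⁻¹ * C.z * n⁻¹⁻¹ * C.z = n⁻¹ * (n * (n⁻¹ * (C.z * (n * C.z * n⁻¹))) ) * n := by group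
        _ = 1 := by
            have : C.z * (n * C.z * n⁻¹) = 1 := by
              rw [eq_inv_of_mul_eq_one_left h, mul_inv_cancel]
            rw [this]; group
  refine (C.pi_ker ⟨_, hN n hn q (C.Q_le hq)⟩).1 (sl_no_normal_three _ ?_ ?_)
  · rw [← map_mul, ← map_mul]
    refine (C.pi_ker _).2 ?_
    show n * q * n⁻¹ * (n * q * n⁻¹) * (n * q * n⁻¹) ∈ C.Q
    rw [show n * q * n⁻¹ * (n * q * n⁻¹) * (n * q * n⁻¹) = n * (q * q * q) * n⁻¹ by group,
      show q * q * q = q ^ 3 by rw [pow_succ, pow_two], C.exp_Q q hq]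
    simp
  · intro x
    obtain ⟨⟨c, hc⟩, rfl⟩ := C.pi_surj x
    have hc' := hN _ hn' c hc
    have hq' := C.conjQ hc' hq
    have hm := C.comm_mem _ hq' q hq
    have h1 : C.pi ⟨n * ⁅n⁻¹ * c * n⁻¹⁻¹ * q * (n⁻¹ * c * n⁻¹⁻¹)⁻¹, q⁆ * n⁻¹,
        hN n hn _ (C.Q_le (C.Z_le_Q hm))⟩ = 1 := by
      refine (C.pi_ker _).2 (C.Z_le_Q ?_)
      obtain ⟨k, hk⟩ := mem_zpowers_iff.1 hm
      show n * _ * n⁻¹ ∈ _
      rw [← hk, ← conj_zpow]
      rcases hn with h | h <;> rw [h]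
      exacts [zpow_mem (mem_zpowers _) _, zpow_mem (inv_mem (mem_zpowers _)) _]
    rw [show (⟨n * ⁅n⁻¹ * c * n⁻¹⁻¹ * q * (n⁻¹ * c * n⁻¹⁻¹)⁻¹, q⁆ * n⁻¹,
        hN n hn _ (C.Q_le (C.Z_le_Q hm))⟩ : C.Cz) =
      ⁅(⟨c, hc⟩ : C.Cz) * ⟨_, hN n hn q (C.Q_le hq)⟩ * ⟨c, hc⟩⁻¹, ⟨_, hN n hn q (C.Q_le hq)⟩⁆ from
      Subtype.ext (by
        show n * ⁅n⁻¹ * c * n⁻¹⁻¹ * q * (n⁻¹ * c * n⁻¹⁻¹)⁻¹, q⁆ * n⁻¹ =
          ⁅c * (n * q * n⁻¹) * c⁻¹, n * q * n⁻¹⁆
        simp only [commutatorElement_def]; group), map_commutatorElement] at h1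
    simp only [map_mul, map_inv] at h1
    exact commutatorElement_eq_one_iff_mul_comm.1 h1

end Conf

namespace Pair

variable {G : Type*} [Group G] [Finite G] (P : Pair G)
include P

/-- The pair with the roles of `z` and `y` exchanged. -/
def symm : Pair G where
  toConf := P.C'
  g := P.g⁻¹
  y_mem := by
    show P.g⁻¹ * P.y * P.g⁻¹⁻¹ ∈ P.C'.Q
    rw [show P.g⁻¹ * P.y * P.g⁻¹⁻¹ = P.z by group]
    exact P.z_Q'
  y_ne := by
    show P.g⁻¹ * P.y * P.g⁻¹⁻¹ ∉ zpowers P.y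
    rw [show P.g⁻¹ * P.y * P.g⁻¹⁻¹ = P.z by group]
    exact P.z_ny

theorem symm_z : P.symm.z = P.y := rfl

theorem symm_y : P.symm.y = P.z := by
  show P.g⁻¹ * P.y * P.g⁻¹⁻¹ = P.z
  group

theorem symm_Q : P.symm.C'.Q = P.Q := by
  show (P.Q.map (MulAut.conj P.g).toMonoidHom).map (MulAut.conj P.g⁻¹).toMonoidHom = P.Q
  ext x
  simp only [mem_map]
  constructor
  · rintro ⟨_, ⟨q, hq, rfl⟩, rfl⟩
    show P.g⁻¹ * (P.g * q * P.g⁻¹) * P.g⁻¹⁻¹ ∈ P.Q
    rwa [show P.g⁻¹ * (P.g * q * P.g⁻¹) * P.g⁻¹⁻¹ = q by group]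
  · intro hx
    exact ⟨_, ⟨x, hx, rfl⟩, show P.g⁻¹ * (P.g * x * P.g⁻¹) * P.g⁻¹⁻¹ = x by group⟩

theorem symm_D : P.symm.D = P.D := by
  show (P.C'.Q ⊓ centralizer ({P.symm.y} : Set G)) ⊓
    (P.symm.C'.Q ⊓ centralizer ({P.y} : Set G)) = P.D
  rw [P.symm_y, P.symm_Q, inf_comm]

theorem conj_D' {c x : G} (hc : c ∈ P.C'.Cz) (hx : x ∈ P.D) : c * x * c⁻¹ ∈ P.D := by
  have h := P.symm.conj_D (c := c) (x := x) hc (by rwa [P.symm_D])
  rwa [P.symm_D] at h

theorem Cz_le_normalizer : P.Cz ≤ normalizer (P.D : Set G) := fun c hc => mem_normalizer_iff.2 fun x =>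
  ⟨P.conj_D hc, fun h => by
    have := P.conj_D (inv_mem hc) h
    rwa [show c⁻¹ * (c * x * c⁻¹) * c⁻¹⁻¹ = x by group] at this⟩

theorem C'_le_normalizer : P.C'.Cz ≤ normalizer (P.D : Set G) := fun c hc => mem_normalizer_iff.2 fun x =>
  ⟨P.conj_D' hc, fun h => by
    have := P.conj_D' (inv_mem hc) h
    rwa [show c⁻¹ * (c * x * c⁻¹) * c⁻¹⁻¹ = x by group] at this⟩

theorem card_fix : Nat.card ↥(P.Cz ⊓ centralizer ({P.y} : Set G)) ≤ 243 := by
  set R := P.Cz ⊓ centralizer ({P.y} : Set G)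
  set f : R →* SL₂ := P.pi.comp (Subgroup.inclusion inf_le_left)
  have hk : f.ker = P.A.subgroupOf R := by
    ext x
    rw [MonoidHom.mem_ker, mem_subgroupOf]
    show P.pi ⟨(x : G), _⟩ = 1 ↔ _
    rw [P.pi_ker]
    exact ⟨fun h => mem_inf.2 ⟨h, x.2.2⟩, fun h => h.1⟩
  have h := Subgroup.card_eq_card_quotient_mul_card_subgroup f.ker
  rw [Nat.card_congr (QuotientGroup.quotientKerEquivRange f).toEquiv, hk,
    Nat.card_congr (subgroupOfEquivOfLe (le_inf (inf_le_left.trans P.Q_le) inf_le_right)).toEquiv,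
    P.card_A] at h
  obtain ⟨b, hb, hbQ⟩ := P.exists_b
  set u := P.pi ⟨b, P.B_Cz hb⟩
  have hr : Nat.card f.range ≤ 3 := by
    have hs : (f.range : Set SL₂) ⊆ Set.range (fun j : Fin 3 => u ^ j.val) := by
      rintro _ ⟨x, rfl⟩
      obtain ⟨j, hj⟩ := P.pi_mem hb hbQ x.2.1 (mem_centralizer_singleton_iff.1 x.2.2)
      exact ⟨j, hj.symm⟩
    refine le_trans (Set.ncard_le_ncard hs (Set.toFinite _)) ?_
    rw [← Nat.card_coe_set_eq]
    exact le_trans (Finite.card_range_le _) (by simp)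
  rw [h]
  omega

/-- The centraliser of `z` is transitive outside `⟨z⟩`. -/
theorem trans_out {x : G} (hx : x ∈ P.D) (hxz : x ∉ zpowers P.z) :
    ∃ c ∈ P.Cz, c * P.y * c⁻¹ = x := by
  set R := (centralizer ({P.y} : Set G)).subgroupOf P.Cz with hR
  set T : Set G := (P.D : Set G) \ (zpowers P.z : Set G) with hT
  have hT24 : T.ncard = 24 := by
    rw [hT, Set.ncard_sdiff (show (zpowers P.z : Set G) ⊆ (P.D : Set G) from zpowers_le.2 P.z_D)]
    rw [show (P.D : Set G).ncard = Nat.card P.D from rfl, P.card_D,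
      show (zpowers P.z : Set G).ncard = Nat.card (zpowers P.z) from rfl, P.card_Z]
  have hmaps : ∀ c ∈ P.Cz, c * P.y * c⁻¹ ∈ T := fun c hc => ⟨P.conj_D hc P.y_D, fun h => P.y_ne (by
    have := P.conj_z_mem (inv_mem hc) h
    rw [conj_back] at this
    show P.y ∈ _
    rw [this]; exact h)⟩
  let f : P.Cz ⧸ R → T := Quotient.lift (fun c => ⟨(c : G) * P.y * (c : G)⁻¹, hmaps c c.2⟩)
    (by
      intro a b hab
      have h0 : a⁻¹ * b ∈ R := QuotientGroup.leftRel_apply.1 hab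
      have h : (a : G)⁻¹ * b ∈ centralizer ({P.y} : Set G) := h0
      refine Subtype.ext ?_
      show (a : G) * P.y * (a : G)⁻¹ = b * P.y * (b : G)⁻¹
      have h' := mem_centralizer_singleton_iff.1 h
      calc (a : G) * P.y * (a : G)⁻¹ = a * (P.y * ((a : G)⁻¹ * b)) * (b : G)⁻¹ := by group
        _ = _ := by rw [← h']; group)
  have hinj : Function.Injective f := by
    intro a b hab
    induction a using QuotientGroup.induction_on with | _ a => ?_
    induction b using QuotientGroup.induction_on with | _ b => ?_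
    have e : (a : G) * P.y * (a : G)⁻¹ = b * P.y * (b : G)⁻¹ := congrArg Subtype.val hab
    refine QuotientGroup.eq.2 ?_
    rw [hR, mem_subgroupOf, mem_centralizer_singleton_iff]
    exact commute_of_conj_eq e
  have hge : 24 ≤ Nat.card (P.Cz ⧸ R) := by
    have h := Subgroup.card_eq_card_quotient_mul_card_subgroup R
    rw [P.card_Cz] at h
    have h2 : Nat.card R ≤ 243 := by
      refine le_trans (le_of_eq ?_) P.card_fix
      rw [hR, ← inf_subgroupOf_left]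
      exact Nat.card_congr (subgroupOfEquivOfLe inf_le_left).toEquiv
    nlinarith
  have hbij : Function.Bijective f := by
    refine (Nat.bijective_iff_injective_and_card f).2 ⟨hinj, le_antisymm ?_ ?_⟩
    · exact Nat.card_le_card_of_injective f hinj
    · rw [Nat.card_coe_set_eq, hT24]; exact hge
  obtain ⟨q, hq⟩ := hbij.2 ⟨x, hx, hxz⟩
  induction q using QuotientGroup.induction_on with | _ c => ?_
  exact ⟨c, c.2, congrArg Subtype.val hq⟩

/-- The normaliser of `D` is transitive on its nontrivial elements. -/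
theorem trans_D {x : G} (hx : x ∈ P.D) (hx1 : x ≠ 1) :
    ∃ n ∈ normalizer (P.D : Set G), n * P.z * n⁻¹ = x := by
  have hC := P.Cz_le_normalizer
  have hC' := P.C'_le_normalizer
  -- `z` and `y`
  have hzy : P.z * P.y ∈ P.D := mul_mem P.z_D P.y_D
  have h1 : P.z * P.y ∉ zpowers P.z := fun h =>
    P.y_ne ((mul_mem_cancel_left (mem_zpowers P.z)).1 h)
  have h2 : P.z * P.y ∉ zpowers P.y := fun h =>
    P.z_ny ((mul_mem_cancel_right (mem_zpowers P.y)).1 h)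
  obtain ⟨c, hc, hcy⟩ := P.trans_out hzy h1
  obtain ⟨d, hd, hdz⟩ := P.symm.trans_out (x := P.z * P.y) (by rw [P.symm_D]; exact hzy) h2
  rw [P.symm_y] at hdz
  have hn : c⁻¹ * d ∈ normalizer (P.D : Set G) := mul_mem (inv_mem (hC hc)) (hC' hd)
  have hy : c⁻¹ * d * P.z * (c⁻¹ * d)⁻¹ = P.y := conj_shift hdz hcy
  by_cases hxz : x ∈ zpowers P.z
  · rcases P.z_cases hxz with e | e | e
    · exact absurd e hx1
    · exact ⟨1, one_mem _, by simp [e]⟩
    · obtain ⟨t, ht, -, htz, -⟩ := P.exists_t'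
      exact ⟨t, hC' ht, by rw [htz, e]⟩
  · obtain ⟨k, hk, hky⟩ := P.trans_out hx hxz
    refine ⟨k * (c⁻¹ * d), mul_mem (hC hk) hn, ?_⟩
    rw [show k * (c⁻¹ * d) * P.z * (k * (c⁻¹ * d))⁻¹ = k * (c⁻¹ * d * P.z * (c⁻¹ * d)⁻¹) * k⁻¹ by group,
      hy, hky]

theorem mem_centralizer_D {x : G} (h : ∀ d ∈ P.D, x * d = d * x) : x ∈ P.D := by
  have hDQ : P.D ≤ P.Q := inf_le_left.trans inf_le_left
  have hDQ' : P.D ≤ P.C'.Q := inf_le_right.trans inf_le_left
  obtain ⟨b, hb, hbQ⟩ := P.exists_b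
  obtain ⟨d, hd, hbd⟩ := P.C'.exists_noncomm hDQ' P.D_comm P.card_D.ge hb.1 fun h => hbQ (hDQ h)
  have hx : x ∈ P.Cz := P.mem_Cz.2 (h _ P.z_D)
  obtain ⟨j, hj⟩ := P.pi_mem hb hbQ hx (h _ P.y_D)
  set bb : P.Cz := ⟨b, P.B_Cz hb⟩ ^ j.val with hbb
  have hq : (b ^ j.val)⁻¹ * x ∈ P.Q := (P.pi_ker (bb⁻¹ * ⟨x, hx⟩)).1 (by
    rw [map_mul, map_inv, hbb, map_pow, ← hj, inv_mul_cancel])
  set q := (b ^ j.val)⁻¹ * x with hq'
  have h1 : ⁅b ^ j.val, d⁆ = 1 := by
    refine P.inter_zy ?_ (P.C'.comm_mem _ (pow_mem hb.1 _) d (hDQ' hd))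
    have hbc : b ^ j.val ∈ P.Cz := pow_mem (P.B_Cz hb) _
    have e : ⁅b ^ j.val, d⁆ = (b ^ j.val * ⁅q, d⁆ * (b ^ j.val)⁻¹)⁻¹ * ⁅x, d⁆ := by
      rw [hq']; simp only [commutatorElement_def]; group
    rw [e, commutatorElement_eq_one_iff_mul_comm.2 (h d hd), mul_one,
      P.conj_z_mem hbc (P.comm_mem _ hq d (hDQ hd))]
    exact inv_mem (P.comm_mem _ hq d (hDQ hd))
  have hj0 : j.val = 0 := by
    by_contra hne
    have hc : Commute (b ^ j.val) d := commutatorElement_eq_one_iff_mul_comm.1 h1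
    have e : b ^ (j.val * j.val) = b := by
      rw [← Nat.div_add_mod (j.val * j.val) 3, pow_add, pow_mul, P.b3 hb, one_pow, one_mul]
      have : j.val * j.val % 3 = 1 := by have := j.2; interval_cases j.val <;> omega
      rw [this, pow_one]
    exact hbd (e ▸ (pow_mul b j.val j.val ▸ hc.pow_left j.val : Commute (b ^ (j.val * j.val)) d)).eq
  rw [hj0, pow_zero, inv_one, one_mul] at hq'
  rw [hq'] at hq
  by_contra hxD
  obtain ⟨e, he, hne⟩ := P.exists_noncomm hDQ P.D_comm P.card_D.ge hq hxD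
  exact hne (h e he)

/-- The order of the normaliser of `D`. -/
theorem card_normalizer : Nat.card (normalizer (P.D : Set G)) = 151632 := by
  set N := normalizer (P.D : Set G)
  set R := P.Cz.subgroupOf N
  set T : Set G := (P.D : Set G) \ {1}
  have hT : T.ncard = 26 := by
    rw [Set.ncard_sdiff_singleton_of_mem (one_mem _),
      show (P.D : Set G).ncard = Nat.card P.D from rfl, P.card_D]
  have hmaps : ∀ n ∈ N, n * P.z * n⁻¹ ∈ T := fun n hn =>
    ⟨(mem_normalizer_iff.1 hn _).1 P.z_D, fun h => P.z_ne (conj_eq_one_iff.1 h)⟩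
  let f : N ⧸ R → T := Quotient.lift (fun n => ⟨(n : G) * P.z * (n : G)⁻¹, hmaps n n.2⟩)
    (by
      intro a b hab
      have h0 : a⁻¹ * b ∈ R := QuotientGroup.leftRel_apply.1 hab
      have h : (a : G)⁻¹ * b ∈ P.Cz := h0
      refine Subtype.ext ?_
      show (a : G) * P.z * (a : G)⁻¹ = b * P.z * (b : G)⁻¹
      calc (a : G) * P.z * (a : G)⁻¹ = a * (P.z * ((a : G)⁻¹ * b)) * (b : G)⁻¹ := by group
        _ = _ := by rw [← P.mem_Cz.1 h]; group)
  have hbij : Function.Bijective f := by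
    constructor
    · intro a b hab
      induction a using QuotientGroup.induction_on with | _ a => ?_
      induction b using QuotientGroup.induction_on with | _ b => ?_
      have e : (a : G) * P.z * (a : G)⁻¹ = b * P.z * (b : G)⁻¹ := congrArg Subtype.val hab
      refine QuotientGroup.eq.2 (mem_subgroupOf.2 (P.mem_Cz.2 ?_))
      show (a : G)⁻¹ * b * P.z = P.z * ((a : G)⁻¹ * b)
      calc (a : G)⁻¹ * b * P.z = (a : G)⁻¹ * (b * P.z * (b : G)⁻¹) * b := by group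
        _ = _ := by rw [← e]; group
    · rintro ⟨x, hx, hx1⟩
      obtain ⟨n, hn, e⟩ := P.trans_D hx (fun h => hx1 h)
      exact ⟨QuotientGroup.mk ⟨n, hn⟩, Subtype.ext e⟩
  rw [Subgroup.card_eq_card_quotient_mul_card_subgroup R, Nat.card_congr (Equiv.ofBijective f hbij),
    Nat.card_coe_set_eq, hT, Nat.card_congr (subgroupOfEquivOfLe P.Cz_le_normalizer).toEquiv,
    P.card_Cz]

end Pair

end Cfsg.Agent.L43Three
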