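import Cfsg.Agent.Lib.L43Three.Pair

/-!
S3373: the subgroup of order 27 attached to a conjugate of `z` in `Q` is normal in the centraliser
of `z`.
-/

set_option autoImplicit false
set_option linter.style.haveILetI false
set_option linter.unusedSectionVars false

namespace Cfsg.Agent.L43Three

open Subgroup
open Cfsg.Agent.HeisSLThree (SL₂)
open scoped commutatorElement

theorem sl_stab : ∀ u x : SL₂, u * u * u = 1 → u ≠ 1 → (∀ j : Fin 3, x ≠ u ^ j.val) →
    ∃ v ∈ [x, u * x, u * x⁻¹], ∃ k : Fin 6, v ^ k.val = -1 := by decide +kernel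

theorem cyclic_three {G : Type*} [Group G] {y : G} (h3 : y ^ 3 = 1) {x : G} (hx : x ∈ zpowers y) :
    x = 1 ∨ x = y ∨ x = y⁻¹ := by
  obtain ⟨n, rfl⟩ := mem_zpowers_iff.1 hx
  have e : y ^ n = y ^ (n % 3) := by
    conv_lhs => rw [← Int.emod_add_mul_ediv n 3]
    rw [zpow_add, zpow_mul, zpow_ofNat, h3, one_zpow, mul_one]
  rw [e]
  have h1 := Int.emod_nonneg n (show (3 : ℤ) ≠ 0 by norm_num)
  have h2 := Int.emod_lt_of_pos n (show (0 : ℤ) < 3 by norm_num)
  interval_cases hn : n % 3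
  · exact Or.inl (zpow_zero y)
  · exact Or.inr (Or.inl (zpow_one y))
  · refine Or.inr (Or.inr (eq_inv_of_mul_eq_one_left ?_))
    rw [← zpow_add_one, show (2 : ℤ) + 1 = (3 : ℕ) by norm_num, zpow_natCast, h3]

theorem mem_closure_insert {G : Type*} [Group G] {T : Set G} {x : G}
    (h : ∀ a ∈ T, Commute a x) {w : G} (hw : w ∈ closure T) : Commute w x := by
  have : closure T ≤ centralizer ({x} : Set G) := (closure_le _).2 fun a ha =>
    mem_centralizer_singleton_iff.2 (h a ha)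
  exact mem_centralizer_singleton_iff.1 (this hw)

namespace Conf

variable {G : Type*} [Group G] [Finite G] (C : Conf G)
include C

theorem bracket_conj {c p q : G} (hc : c ∈ C.Cz) (hp : p ∈ C.Q) (hq : q ∈ C.Q) :
    ⁅c * p * c⁻¹, c * q * c⁻¹⁆ = ⁅p, q⁆ := by
  rw [show ⁅c * p * c⁻¹, c * q * c⁻¹⁆ = c * ⁅p, q⁆ * c⁻¹ by
    simp only [commutatorElement_def]; group,
    (C.commute_zpow hc (C.comm_mem p hp q hq)).eq, mul_inv_cancel_right]

theorem conj_z_mem {c x : G} (hc : c ∈ C.Cz) (hx : x ∈ zpowers C.z) : c * x * c⁻¹ = x := by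
  rw [(C.commute_zpow hc hx).eq, mul_inv_cancel_right]

theorem mem_adjoin {E : Subgroup G} (hE : E ≤ C.Q) (hz : C.z ∈ E) {v x : G} (hv : v ∈ C.Q)
    (hx : x ∈ E ⊔ zpowers v) : ∃ p ∈ E, x = p ∨ x = p * v ∨ x = p * v⁻¹ := by
  have hN : zpowers v ≤ normalizer (E : Set G) := by
    rw [zpowers_le]
    refine mem_normalizer_iff.2 fun a => ?_
    have key : ∀ w ∈ C.Q, ∀ a ∈ E, w * a * w⁻¹ ∈ E := by
      intro w hw a ha
      rw [show w * a * w⁻¹ = ⁅w, a⁆ * a by rw [commutatorElement_def]; group]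
      exact mul_mem ((zpowers_le.2 hz) (C.comm_mem w hw a (hE ha))) ha
    refine ⟨key v hv a, fun h => ?_⟩
    have := key v⁻¹ (inv_mem hv) _ h
    rwa [show v⁻¹ * (v * a * v⁻¹) * v⁻¹⁻¹ = a by group] at this
  have h : x ∈ ((E ⊔ zpowers v : Subgroup G) : Set G) := hx
  rw [coe_mul_of_right_le_normalizer_left _ _ hN] at h
  obtain ⟨p, hp, q, hq, rfl⟩ := h
  refine ⟨p, hp, ?_⟩
  rcases cyclic_three (C.exp_Q v hv) hq with e | e | e <;> subst e
  · exact Or.inl (mul_one p)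
  · exact Or.inr (Or.inl rfl)
  · exact Or.inr (Or.inr rfl)

theorem mem_line {x v : G} (hv : v ∈ C.Q) (hx : x ∈ zpowers C.z ⊔ zpowers v) :
    ∃ c ∈ zpowers C.z, x = c ∨ x = c * v ∨ x = c * v⁻¹ :=
  C.mem_adjoin C.Z_le_Q (mem_zpowers _) hv hx

/-- An element squaring to the central involution moves every line of `Q` over the centre. -/
theorem no_fixed_line {g : G} (hg : g ∈ C.Cz) (hw : C.pi ⟨g, hg⟩ * C.pi ⟨g, hg⟩ = -1) {x : G}
    (hx : x ∈ C.Q) (hxz : x ∉ zpowers C.z) : g * x * g⁻¹ ∉ zpowers C.z ⊔ zpowers x := by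
  intro h
  obtain ⟨c, hc, e⟩ := C.mem_line hx h
  have h2 := C.inverts (mul_mem hg hg) (by rw [← hw, ← map_mul]; rfl) hx
  rw [show g * g * x * (g * g)⁻¹ = g * (g * x * g⁻¹) * g⁻¹ by group] at h2
  have hgc := C.conj_z_mem hg hc
  rcases e with e | e | e
  · refine hxz ?_
    have : x = g⁻¹ * c * g := by rw [← e]; group
    rw [this]
    have hg' := C.conj_z_mem (inv_mem hg) hc
    rw [inv_inv] at hg'
    rwa [hg']
  · refine C.not_mem_of_sq hxz hx ?_
    have e2 : g * (g * x * g⁻¹) * g⁻¹ * x = c * c * (x * x) := by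
      rw [e, show g * (c * x) * g⁻¹ = g * c * g⁻¹ * (g * x * g⁻¹) by group, hgc, e]
      group
    rw [e2] at h2
    exact (Subgroup.mul_mem_cancel_left _ (mul_mem hc hc)).1 h2
  · refine C.not_mem_of_sq hxz hx ?_
    have e2 : g * (g * x * g⁻¹) * g⁻¹ * x = x * x := by
      rw [e, show g * (c * x⁻¹) * g⁻¹ = g * c * g⁻¹ * (g * x * g⁻¹)⁻¹ by group, hgc, e, mul_inv_rev,
        inv_inv, ← mul_assoc, ← (C.commute_zpow (C.Q_le hx) hc).eq, mul_assoc x c c⁻¹,
        mul_inv_cancel, mul_one]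
    rwa [e2] at h2

end Conf

namespace Pair

variable {G : Type*} [Group G] [Finite G] (P : Pair G)
include P

theorem y3 : P.y ^ 3 = 1 := P.exp_Q _ P.y_mem

theorem comm_by {b : G} (hb : b ∈ P.B) : Commute b P.y := mem_centralizer_singleton_iff.1 (P.B_C' hb)

theorem comm_ay {a : G} (ha : a ∈ P.A) : Commute a P.y := mem_centralizer_singleton_iff.1 (P.A_C' ha)

theorem pi_mem {b x : G} (hb : b ∈ P.B) (hbQ : b ∉ P.Q) (hx : x ∈ P.Cz) (hxy : Commute x P.y) :
    ∃ j : Fin 3, P.pi ⟨x, hx⟩ = P.pi ⟨b, P.B_Cz hb⟩ ^ j.val := by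
  by_contra h
  push Not at h
  obtain ⟨h3, h1⟩ := P.pi_b hb hbQ
  obtain ⟨v, hv, k, hk⟩ := sl_stab _ _ h3 h1 h
  have key : ∀ c : P.Cz, Commute (c : G) P.y → P.pi c = v → False := fun c hc e => by
    refine P.pi_cube (c ^ k.val).2 (by simpa using hc.pow_left k.val) ?_
    rw [Subtype.coe_eta, map_pow, e, hk]
  simp only [List.mem_cons, List.not_mem_nil, or_false] at hv
  rcases hv with e | e | e
  · exact key ⟨x, hx⟩ hxy e.symm
  · exact key (⟨b, P.B_Cz hb⟩ * ⟨x, hx⟩) ((P.comm_by hb).mul_left hxy) (by rw [map_mul, e])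
  · exact key (⟨b, P.B_Cz hb⟩ * ⟨x, hx⟩⁻¹) ((P.comm_by hb).mul_left hxy.inv_left)
      (by rw [map_mul, map_inv, e])

theorem orbit_step {c c' : G} (hc : c ∈ P.Cz) (hc' : c' ∈ P.Cz)
    (h : P.pi ⟨c, hc⟩ = P.pi ⟨c', hc'⟩ ∨ P.pi ⟨c, hc⟩ = -1 * P.pi ⟨c', hc'⟩) :
    ∃ ζ ∈ zpowers P.z, c * P.y * c⁻¹ = ζ * (c' * P.y * c'⁻¹) ∨
      c * P.y * c⁻¹ = ζ * (c' * P.y * c'⁻¹)⁻¹ := by
  rcases h with h | h
  · have hq : c'⁻¹ * c ∈ P.Q := (P.pi_ker (⟨c', hc'⟩⁻¹ * ⟨c, hc⟩)).1 (by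
      rw [map_mul, map_inv, h, inv_mul_cancel])
    refine ⟨⁅c'⁻¹ * c, P.y⁆, P.comm_mem _ hq _ P.y_mem, Or.inl ?_⟩
    nth_rw 1 [← P.conj_z_mem hc' (P.comm_mem _ hq _ P.y_mem)]
    simp only [commutatorElement_def]; group
  · have hm : P.pi (⟨c', hc'⟩⁻¹ * ⟨c, hc⟩) = -1 := by
      rw [map_mul, map_inv, h, ← mul_assoc, HeisSLThree.neg_one_central, mul_assoc, inv_mul_cancel,
        mul_one]
    have hz := P.inverts (mul_mem (inv_mem hc') hc) hm P.y_mem
    refine ⟨_, hz, Or.inr ?_⟩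
    nth_rw 1 [← P.conj_z_mem hc' hz]
    group

theorem comm_mem_zy {b p : G} (hb : b ∈ P.B) (hp : p ∈ zpowers P.z ⊔ zpowers P.y) : Commute b p := by
  have : zpowers P.z ⊔ zpowers P.y ≤ centralizer ({b} : Set G) :=
    sup_le (zpowers_le.2 (mem_centralizer_singleton_iff.2 (P.commute_z (P.B_Cz hb)).eq.symm))
      (zpowers_le.2 (mem_centralizer_singleton_iff.2 (P.comm_by hb).eq.symm))
  exact (mem_centralizer_singleton_iff.1 (this hp)).symm

/-- `D` is normal in the centraliser of `z`. -/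
theorem conj_D {c x : G} (hc : c ∈ P.Cz) (hx : x ∈ P.D) : c * x * c⁻¹ ∈ P.D := by
  haveI : Fact (Nat.Prime 3) := ⟨Nat.prime_three⟩
  obtain ⟨b, hb, hbQ⟩ := P.exists_b
  obtain ⟨hu3, hu1⟩ := P.pi_b hb hbQ
  obtain ⟨w, hw⟩ := sl_four
  obtain ⟨⟨g, hg⟩, hgw⟩ := P.pi_surj w
  have hbc := P.B_Cz hb
  set v2 := g * P.y * g⁻¹ with hv2
  set v3 := b * v2 * b⁻¹ with hv3
  set v4 := b * v3 * b⁻¹ with hv4
  have q2 : v2 ∈ P.Q := P.conjQ hg P.y_mem
  have q3 : v3 ∈ P.Q := P.conjQ hbc q2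
  have q4 : v4 ∈ P.Q := P.conjQ hbc q3
  have hb3 : b * b * b = 1 := by rw [← P.b3 hb, pow_succ, pow_two]
  have hbv4 : b * v4 * b⁻¹ = v2 := by
    calc b * v4 * b⁻¹ = (b * b * b) * v2 * (b * b * b)⁻¹ := by rw [hv4, hv3]; group
      _ = v2 := by rw [hb3]; group
  have hby : b * P.y * b⁻¹ = P.y := by rw [(P.comm_by hb).eq, mul_inv_cancel_right]
  set S := closure ({P.z, P.y, v2, v3, v4} : Set G) with hS
  have mS : ∀ a ∈ ({P.z, P.y, v2, v3, v4} : Set G), a ∈ S := fun a ha => subset_closure ha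
  have hzS : P.z ∈ S := mS _ (by simp)
  have hyS : P.y ∈ S := mS _ (by simp)
  have h2S : v2 ∈ S := mS _ (by simp)
  have hSQ : S ≤ P.Q := (closure_le _).2 (by
    rintro a (rfl | rfl | rfl | rfl | rfl)
    exacts [P.z_mem, P.y_mem, q2, q3, q4])
  -- conjugates of `y`
  have orb : ∀ c ∈ P.Cz, c * P.y * c⁻¹ ∈ S := by
    intro c hc
    obtain ⟨k, hk, j, hkj⟩ := sl_cover _ w (P.pi ⟨c, hc⟩) hu3 hu1 hw
    have fin : ∀ k' : P.Cz, P.pi k' = k → (k' : G) * P.y * (k' : G)⁻¹ ∈ S → c * P.y * c⁻¹ ∈ S := by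
      intro k' hk' hS'
      obtain ⟨ζ, hζ, e⟩ := P.orbit_step hc (k' * (⟨b, hbc⟩ : P.Cz) ^ j.val).2 (by
        rw [Subtype.coe_eta, map_mul, map_pow, hk']; exact hkj)
      have e2 : ((k' * (⟨b, hbc⟩ : P.Cz) ^ j.val : P.Cz) : G) * P.y *
          ((k' * (⟨b, hbc⟩ : P.Cz) ^ j.val : P.Cz) : G)⁻¹ = (k' : G) * P.y * (k' : G)⁻¹ := by
        push_cast
        calc (k' : G) * b ^ j.val * P.y * ((k' : G) * b ^ j.val)⁻¹
            = (k' : G) * (b ^ j.val * P.y * (b ^ j.val)⁻¹) * (k' : G)⁻¹ := by group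
          _ = _ := by rw [((P.comm_by hb).pow_left j.val).eq, mul_inv_cancel_right]
      rw [e2] at e
      have hζS : ζ ∈ S := (zpowers_le.2 hzS) hζ
      rcases e with e | e <;> rw [e]
      exacts [mul_mem hζS hS', mul_mem hζS (inv_mem hS')]
    simp only [List.mem_cons, List.not_mem_nil, or_false] at hk
    rcases hk with rfl | rfl | rfl | rfl
    · exact fin 1 (map_one _) (by simpa using hyS)
    · exact fin ⟨g, hg⟩ hgw h2S
    · refine fin (⟨b, hbc⟩ * ⟨g, hg⟩) (by rw [map_mul, hgw]) (mS _ ?_)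
      simp only [coe_mul, Set.mem_insert_iff, Set.mem_singleton_iff]
      right; right; right; left
      rw [hv3, hv2]; group
    · refine fin (⟨b, hbc⟩ * ⟨b, hbc⟩ * ⟨g, hg⟩) (by rw [map_mul, map_mul, hgw]) (mS _ ?_)
      simp only [coe_mul, Set.mem_insert_iff, Set.mem_singleton_iff]
      right; right; right; right
      rw [hv4, hv3, hv2]; group
  have inv : ∀ c ∈ P.Cz, ∀ a ∈ S, c * a * c⁻¹ ∈ S := by
    intro c hc a ha
    have hle : S ≤ S.comap (MulAut.conj c).toMonoidHom := by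
      rw [hS, closure_le]
      rintro a (rfl | rfl | rfl | rfl | rfl) <;> show c * _ * c⁻¹ ∈ S
      · rw [P.conj_z_mem hc (mem_zpowers _)]; exact hzS
      · exact orb c hc
      · rw [hv2, show c * (g * P.y * g⁻¹) * c⁻¹ = c * g * P.y * (c * g)⁻¹ by group]
        exact orb _ (mul_mem hc hg)
      · rw [hv3, hv2, show c * (b * (g * P.y * g⁻¹) * b⁻¹) * c⁻¹ =
          c * b * g * P.y * (c * b * g)⁻¹ by group]
        exact orb _ (mul_mem (mul_mem hc hbc) hg)
      · rw [hv4, hv3, hv2, show c * (b * (b * (g * P.y * g⁻¹) * b⁻¹) * b⁻¹) * c⁻¹ =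
          c * b * b * g * P.y * (c * b * b * g)⁻¹ by group]
        exact orb _ (mul_mem (mul_mem (mul_mem hc hbc) hbc) hg)
    exact hle ha
  -- the pairing
  have ey3 : ⁅P.y, v3⁆ = ⁅P.y, v2⁆ := by
    conv_lhs => rw [← hby]
    exact P.bracket_conj hbc P.y_mem q2
  have ey4 : ⁅P.y, v4⁆ = ⁅P.y, v2⁆ := by
    conv_lhs => rw [← hby]
    rw [hv4, P.bracket_conj hbc P.y_mem q3, ey3]
  have e34 : ⁅v3, v4⁆ = ⁅v2, v3⁆ := P.bracket_conj hbc q2 q3
  have e42 : ⁅v4, v2⁆ = ⁅v2, v3⁆ := by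
    conv_lhs => rw [hv4, ← hbv4]
    rw [P.bracket_conj hbc q3 q4, e34]
  have cube : ∀ {p q : G}, p ∈ P.Q → q ∈ P.Q → ⁅p, q⁆ * ⁅p, q⁆ * ⁅p, q⁆ = 1 := fun hp hq => by
    have := P.exp_Q _ (P.Z_le_Q (P.comm_mem _ hp _ hq))
    rwa [pow_succ, pow_two] at this
  set m := v2 * v3 * v4 with hm
  have qm : m ∈ P.Q := mul_mem (mul_mem q2 q3) q4
  have split : ∀ {p : G}, p ∈ P.Q → ⁅p, m⁆ = ⁅p, v2⁆ * ⁅p, v3⁆ * ⁅p, v4⁆ := fun hp => by
    rw [hm, P.bracket_mul_right hp (mul_mem q2 q3) q4, P.bracket_mul_right hp q2 q3]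
  have cm : ∀ a ∈ S, Commute a m := fun a ha => mem_closure_insert (fun t ht => by
    rcases ht with rfl | rfl | rfl | rfl | rfl <;> show _ * m = m * _
    · exact (P.commute_z (P.Q_le qm)).eq.symm
    all_goals refine commutatorElement_eq_one_iff_mul_comm.1 ?_
    · rw [split P.y_mem, ey3, ey4, cube P.y_mem q2]
    · rw [split q2, commutatorElement_self, one_mul, ← commutatorElement_inv v4 v2, e42,
        mul_inv_cancel]
    · rw [split q3, ← commutatorElement_inv v2 v3, commutatorElement_self, mul_one, e34,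
        inv_mul_cancel]
    · rw [split q4, commutatorElement_self, mul_one, e42, ← commutatorElement_inv v3 v4, e34,
        mul_inv_cancel]) ha
  -- the order of `S`
  set L := zpowers P.z ⊔ zpowers P.y with hL
  have hLQ : L ≤ P.Q := sup_le P.Z_le_Q (zpowers_le.2 P.y_mem)
  have hLS : L ≤ S := sup_le (zpowers_le.2 hzS) (zpowers_le.2 hyS)
  have hzL : P.z ∈ L := mem_sup_left (mem_zpowers _)
  have hyL : P.y ∈ L := mem_sup_right (mem_zpowers _)
  have hgw2 : P.pi ⟨g, hg⟩ * P.pi ⟨g, hg⟩ = -1 := by rw [hgw, hw]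
  have h2L : v2 ∉ L := P.no_fixed_line hg hgw2 P.y_mem P.y_ne
  have c27 : Nat.card ↥(L ⊔ zpowers v2) = 27 := by
    rw [(P.card_adjoin hLQ hzL q2).2 h2L, P.card_zy P.y_mem P.y_ne]
  have small : m ∈ zpowers P.z → S ≤ L ⊔ zpowers v2 ⊔ zpowers v3 := fun hmz => (closure_le _).2 (by
    have hzT : zpowers P.z ≤ L ⊔ zpowers v2 ⊔ zpowers v3 :=
      le_sup_left.trans (le_sup_left.trans le_sup_left)
    rintro a (rfl | rfl | rfl | rfl | rfl)
    · exact hzT (mem_zpowers _)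
    · exact mem_sup_left (mem_sup_left hyL)
    · exact mem_sup_left (mem_sup_right (mem_zpowers _))
    · exact mem_sup_right (mem_zpowers _)
    · rw [show v4 = (v2 * v3)⁻¹ * m by rw [hm]; group]
      exact mul_mem (inv_mem (mul_mem (mem_sup_left (mem_sup_right (mem_zpowers _)))
        (mem_sup_right (mem_zpowers _)))) (hzT hmz))
  have hT81 : Nat.card ↥(L ⊔ zpowers v2 ⊔ zpowers v3) ≤ 81 := by
    have := (P.card_adjoin (sup_le hLQ (zpowers_le.2 q2)) (mem_sup_left hzL) q3).1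
    rw [c27] at this; omega
  have card81 : Nat.card S ≤ 81 := by
    by_cases hmz : m ∈ zpowers P.z
    · exact le_trans (card_le_of_le (small hmz)) hT81
    · have : S ≤ P.Q ⊓ centralizer ({m} : Set G) := fun a ha =>
        mem_inf.2 ⟨hSQ ha, mem_centralizer_singleton_iff.2 (cm a ha)⟩
      exact le_trans (card_le_of_le this) (P.card_inf_centralizer qm hmz).le
  have ne81 : Nat.card S ≠ 81 := by
    intro h81
    obtain ⟨n, hn, hnz, hnS⟩ : ∃ n ∈ P.Q, n ∉ zpowers P.z ∧ ∀ a ∈ S, Commute a n := by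
      by_cases hmz : m ∈ zpowers P.z
      · let f : P.Q →* zpowers P.z × zpowers P.z × zpowers P.z :=
          (P.bracketHom P.y_mem).prod ((P.bracketHom q2).prod (P.bracketHom q3))
        have h := Subgroup.card_eq_card_quotient_mul_card_subgroup f.ker
        rw [Nat.card_congr (QuotientGroup.quotientKerEquivRange f).toEquiv, P.card_Q] at h
        have hr : Nat.card f.range ≤ 27 := by
          refine le_trans (Subgroup.card_le_card_group _) ?_
          rw [Nat.card_prod, Nat.card_prod, P.card_Z]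
        have h9 : 3 < Nat.card f.ker := by nlinarith
        obtain ⟨n, hn, hnz⟩ : ∃ n ∈ f.ker, (n : G) ∉ zpowers P.z := by
          by_contra hall
          push Not at hall
          have : Nat.card f.ker ≤ Nat.card (zpowers P.z) :=
            Nat.card_le_card_of_injective (fun n => (⟨((n : P.Q) : G), hall n n.2⟩ : zpowers P.z))
              fun a b e => Subtype.ext (Subtype.ext (congrArg Subtype.val e :))
          rw [P.card_Z] at this
          omega
        refine ⟨n, n.2, hnz, fun a ha => ?_⟩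
        have hn' : f n = 1 := hn
        have hy' : ⁅(n : G), P.y⁆ = 1 := congrArg (fun p => ((p.1 : zpowers P.z) : G)) hn'
        have h2' : ⁅(n : G), v2⁆ = 1 := congrArg (fun p => ((p.2.1 : zpowers P.z) : G)) hn'
        have h3' : ⁅(n : G), v3⁆ = 1 := congrArg (fun p => ((p.2.2 : zpowers P.z) : G)) hn'
        have hT : L ⊔ zpowers v2 ⊔ zpowers v3 ≤ centralizer ({(n : G)} : Set G) :=
          sup_le (sup_le (sup_le (zpowers_le.2 (mem_centralizer_singleton_iff.2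
            (P.commute_z (P.Q_le n.2)).eq.symm))
            (zpowers_le.2 (mem_centralizer_singleton_iff.2
              (commutatorElement_eq_one_iff_mul_comm.1 hy').symm)))
            (zpowers_le.2 (mem_centralizer_singleton_iff.2
              (commutatorElement_eq_one_iff_mul_comm.1 h2').symm)))
            (zpowers_le.2 (mem_centralizer_singleton_iff.2
              (commutatorElement_eq_one_iff_mul_comm.1 h3').symm))
        exact mem_centralizer_singleton_iff.1 (hT (small hmz ha))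
      · exact ⟨m, qm, hmz, cm⟩
    have eqC : ∀ n ∈ P.Q, n ∉ zpowers P.z → (∀ a ∈ S, Commute a n) → n ∈ S := by
      intro n hn hnz hnS
      have e : S = P.Q ⊓ centralizer ({n} : Set G) := eq_of_le_of_card_ge
        (fun a ha => mem_inf.2 ⟨hSQ ha, mem_centralizer_singleton_iff.2 (hnS a ha)⟩)
        (by rw [P.card_inf_centralizer hn hnz, h81])
      rw [e]; exact mem_inf.2 ⟨hn, mem_centralizer_singleton_iff.2 rfl⟩
    set n2 := g * n * g⁻¹
    have hn2 : n2 ∈ P.Q := P.conjQ hg hn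
    have hn2S : ∀ a ∈ S, Commute a n2 := fun a ha => by
      have := (Commute.conj_iff g).2 (hnS _ (inv g⁻¹ (inv_mem hg) a ha))
      rwa [show g * (g⁻¹ * a * g⁻¹⁻¹) * g⁻¹ = a by group] at this
    have hn2L : n2 ∉ zpowers P.z ⊔ zpowers n := P.no_fixed_line hg hgw2 hn hnz
    have hn2z : n2 ∉ zpowers P.z := fun h => hn2L (mem_sup_left h)
    set E := zpowers P.z ⊔ zpowers n ⊔ zpowers n2
    have hEc : Nat.card E = 27 := by
      rw [(P.card_adjoin (sup_le P.Z_le_Q (zpowers_le.2 hn)) (mem_sup_left (mem_zpowers _)) hn2).2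
        hn2L, P.card_zy hn hnz]
    have hES : E ≤ S := sup_le (sup_le (zpowers_le.2 hzS) (zpowers_le.2 (eqC n hn hnz hnS)))
      (zpowers_le.2 (eqC n2 hn2 hn2z hn2S))
    have hEcen : ∀ a ∈ S, ∀ e ∈ E, a * e = e * a := by
      intro a ha e he
      have : E ≤ centralizer ({a} : Set G) :=
        sup_le (sup_le (zpowers_le.2 (mem_centralizer_singleton_iff.2
          (P.commute_z (P.Q_le (hSQ ha))).eq.symm))
          (zpowers_le.2 (mem_centralizer_singleton_iff.2 (hnS a ha).eq.symm)))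
          (zpowers_le.2 (mem_centralizer_singleton_iff.2 (hn2S a ha).eq.symm))
      exact (mem_centralizer_singleton_iff.1 (this he)).symm
    obtain ⟨a, haS, haE⟩ : ∃ a ∈ S, a ∉ E := SetLike.not_le_iff_exists.1 fun hle => by
      have := card_le_of_le hle; omega
    obtain ⟨e, he, hne⟩ := P.exists_noncomm (hES.trans hSQ) (fun u hu v hv => hEcen u (hES hu) v hv)
      hEc.ge (hSQ haS) haE
    exact hne (hEcen a haS e he)
  have hS2 : L ⊔ zpowers v2 ≤ S := sup_le hLS (zpowers_le.2 h2S)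
  have eS : S = L ⊔ zpowers v2 := by
    refine (eq_of_le_of_card_ge hS2 ?_).symm
    rw [c27]
    obtain ⟨k, hk⟩ := IsPGroup.iff_card.1 (P.isPGroup_Q.to_le hSQ)
    rw [hk] at card81 ne81 ⊢
    have : k < 4 := by
      by_contra h4
      rcases Nat.lt_or_ge k 5 with h5 | h5
      · exact ne81 (by rw [show k = 4 by omega]; norm_num)
      · have : 3 ^ 5 ≤ 3 ^ k := Nat.pow_le_pow_right (by norm_num) h5
        omega
    exact le_trans (Nat.pow_le_pow_right (by norm_num) (show k ≤ 3 by omega)) (by norm_num)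
  -- elements of `D` moved by `b`
  have hDQ : P.D ≤ P.Q := inf_le_left.trans inf_le_left
  have hDQ' : P.D ≤ P.C'.Q := inf_le_right.trans inf_le_left
  have hDcard := P.card_D
  obtain ⟨d, hd, hbd⟩ := P.C'.exists_noncomm hDQ' P.D_comm hDcard.ge hb.1 fun h => hbQ (hDQ h)
  have hbd1 : ⁅b, d⁆ ≠ 1 := fun h => hbd (commutatorElement_eq_one_iff_mul_comm.1 h)
  -- `S` is abelian
  have habel : Commute P.y v2 := by
    by_contra hne
    have he1 : ⁅P.y, v2⁆ ≠ 1 := fun h => hne (commutatorElement_eq_one_iff_mul_comm.1 h)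
    have hgen : zpowers ⁅P.y, v2⁆ = zpowers P.z := by
      rcases P.z_cases (P.comm_mem _ P.y_mem _ q2) with h | h | h
      · exact absurd h he1
      · rw [h]
      · rw [h, zpowers_inv]
    obtain ⟨i, hi⟩ := mem_zpowers_iff.1 (hgen ▸ P.comm_mem d (hDQ hd) v2 q2)
    set d' := d * P.y ^ (-i) with hd'
    have hd'2 : ⁅d', v2⁆ = 1 := by
      have e := congrArg Subtype.val (map_zpow (P.bracketHom q2) ⟨P.y, P.y_mem⟩ (-i))
      have e' : ⁅P.y ^ (-i), v2⁆ = ⁅P.y, v2⁆ ^ (-i) := by simpa [Conf.bracketHom] using e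
      rw [hd', P.bracket_mul_left (hDQ hd) (zpow_mem P.y_mem _) q2, e', ← hi, ← zpow_add,
        add_neg_cancel, zpow_zero]
    have hd'D : d' ∈ P.D := mul_mem hd (zpow_mem P.y_D _)
    have hd'S : ∀ a ∈ S, Commute a d' := by
      intro a ha
      have : L ⊔ zpowers v2 ≤ centralizer ({d'} : Set G) :=
        sup_le (sup_le (zpowers_le.2 (mem_centralizer_singleton_iff.2 (P.D_comm _ P.z_D _ hd'D)))
          (zpowers_le.2 (mem_centralizer_singleton_iff.2 (P.D_comm _ P.y_D _ hd'D))))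
          (zpowers_le.2 (mem_centralizer_singleton_iff.2
            (commutatorElement_eq_one_iff_mul_comm.1 hd'2).symm))
      exact mem_centralizer_singleton_iff.1 (this (eS ▸ ha))
    have e1 : ⁅b, d'⁆ = ⁅b, d⁆ := by
      have c1 := ((P.comm_by hb).zpow_right (-i)).eq
      calc ⁅b, d'⁆ = b * d * (P.y ^ (-i) * b⁻¹) * (P.y ^ (-i))⁻¹ * d⁻¹ := by
            rw [hd', commutatorElement_def]; group
        _ = _ := by
            rw [((P.comm_by hb).inv_left.zpow_right (-i)).eq.symm, commutatorElement_def]; group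
    have hcom : Commute ⁅b, d⁆ v2 := by
      rw [← e1, commutatorElement_def]
      refine Commute.mul_left ?_ (hd'S v2 h2S).symm.inv_left
      have := (Commute.conj_iff b).2 (hd'S _ (inv b⁻¹ (inv_mem hbc) v2 h2S)).symm
      rwa [show b * (b⁻¹ * v2 * b⁻¹⁻¹) * b⁻¹ = v2 by group] at this
    rcases cyclic_three P.y3 (P.C'.comm_mem b hb.1 d (hDQ' hd)) with h | h | h
    · exact hbd1 h
    · exact hne (h ▸ hcom)
    · exact hne (Commute.inv_left_iff.1 (h ▸ hcom))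
  have h2A : v2 ∈ P.A := mem_inf.2 ⟨q2, mem_centralizer_singleton_iff.2 habel.eq.symm⟩
  -- `S = D`
  suffices h2D : v2 ∈ P.D by
    have e : P.D = S := by
      rw [eS]
      refine (eq_of_le_of_card_ge (sup_le (sup_le (zpowers_le.2 P.z_D) (zpowers_le.2 P.y_D))
        (zpowers_le.2 h2D)) ?_).symm
      rw [hDcard, c27]
    rw [e] at hx ⊢
    exact inv c hc x hx
  by_contra h2D
  set s := ⁅b, v2⁆ with hs
  have hs3 : s = v3 * v2⁻¹ := by rw [hs, hv3, commutatorElement_def]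
  have hsS : s ∈ S := by rw [hs3]; exact mul_mem (mS _ (by simp)) (inv_mem h2S)
  have hSA : S ≤ P.A := by
    rw [eS]
    exact sup_le (sup_le (zpowers_le.2 P.z_A) (zpowers_le.2 P.y_A)) (zpowers_le.2 h2A)
  have hsB : s ∈ P.B := by
    rw [hs, show ⁅b, v2⁆ = b * (v2 * b⁻¹ * v2⁻¹) by rw [commutatorElement_def]; group]
    refine mul_mem hb (mem_inf.2 ⟨P.C'.conjQ (P.A_C' h2A) (inv_mem hb.1), ?_⟩)
    exact mul_mem (mul_mem (P.Q_le q2) (inv_mem hbc)) (inv_mem (P.Q_le q2))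
  have hsL : s ∈ L := by
    have hLD : L ≤ S ⊓ P.D := le_inf hLS (sup_le (zpowers_le.2 P.z_D) (zpowers_le.2 P.y_D))
    have hlt : S ⊓ P.D < S := lt_of_le_of_ne inf_le_left fun e => h2D (inf_eq_left.1 e h2S)
    have h1 : Nat.card ↥(S ⊓ P.D) < Nat.card S :=
      Set.ncard_lt_ncard (s := ((S ⊓ P.D : Subgroup G) : Set G)) (t := S) hlt (Set.toFinite _)
    obtain ⟨k, hk⟩ := IsPGroup.iff_card.1 (P.isPGroup_Q.to_le (inf_le_left.trans hSQ))
    have e : L = S ⊓ P.D := eq_of_le_of_card_ge hLD (by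
      rw [P.card_zy P.y_mem P.y_ne, hk]
      rw [hk, eS, c27] at h1
      have : k < 3 := (Nat.pow_lt_pow_iff_right (a := 3) (by norm_num)).1 (by simpa using h1)
      exact le_trans (Nat.pow_le_pow_right (by norm_num) (show k ≤ 2 by omega)) (by norm_num))
    rw [e]
    exact mem_inf.2 ⟨hsS, mem_inf.2 ⟨hSA hsS, hsB⟩⟩
  have hsz : s ∉ zpowers P.z := by
    intro h
    obtain ⟨q, hq, hqs⟩ := P.exists_bracket P.y_mem P.y_ne (inv_mem h)
    have hgi := inv_mem hg
    have hxc : g⁻¹ * b * g ∈ P.Cz := mul_mem (mul_mem hgi hbc) hg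
    have hy2 : g⁻¹ * b * g * P.y * (g⁻¹ * b * g)⁻¹ = s * P.y := by
      have e := P.conj_z_mem hgi h
      calc g⁻¹ * b * g * P.y * (g⁻¹ * b * g)⁻¹ = g⁻¹ * s * g⁻¹⁻¹ * (g⁻¹ * v2 * g) := by
            rw [hs3, hv3, hv2]; group
        _ = _ := by rw [e, hv2]; group
    have hcom : Commute (q * (g⁻¹ * b * g)) P.y := by
      refine commutatorElement_eq_one_iff_mul_comm.1 ?_
      calc ⁅q * (g⁻¹ * b * g), P.y⁆
          = q * (g⁻¹ * b * g * P.y * (g⁻¹ * b * g)⁻¹) * q⁻¹ * P.y⁻¹ := by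
            simp only [commutatorElement_def]; group
        _ = q * s * q⁻¹ * ⁅q, P.y⁆ := by rw [hy2, commutatorElement_def]; group
        _ = 1 := by rw [P.conj_z_mem (P.Q_le hq) h, hqs, mul_inv_cancel]
    obtain ⟨j, hj⟩ := P.pi_mem hb hbQ (mul_mem (P.Q_le hq) hxc) hcom
    refine sl_norm _ w hu3 hu1 hw j ?_
    rw [← hj, show (⟨q * (g⁻¹ * b * g), mul_mem (P.Q_le hq) hxc⟩ : P.Cz) =
      ⟨q, P.Q_le hq⟩ * (⟨g, hg⟩⁻¹ * ⟨b, hbc⟩ * ⟨g, hg⟩) from rfl]
    simp only [map_mul, map_inv, hgw, (P.pi_ker ⟨q, P.Q_le hq⟩).2 hq, one_mul]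
  -- the involution centralising `y`
  obtain ⟨t, ht, ht2, htz, htQ⟩ := P.exists_t'
  have hty : t * P.y * t⁻¹ = P.y := by
    have e : t * P.y = P.y * t := mem_centralizer_singleton_iff.1 ht
    rw [e, mul_inv_cancel_right]
  have htC : ∀ c ∈ P.Cz, t * c * t⁻¹ ∈ P.Cz := fun c hc => by
    have h1 := (Commute.conj_iff t).2 (P.commute_z hc)
    rw [htz] at h1
    exact P.mem_Cz.2 (Commute.inv_right_iff.1 h1).eq
  have htv : t * v2 * t⁻¹ ∈ L ⊔ zpowers v2 := by
    rw [← eS, hv2, show t * (g * P.y * g⁻¹) * t⁻¹ =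
      t * g * t⁻¹ * (t * P.y * t⁻¹) * (t * g * t⁻¹)⁻¹ by group, hty]
    exact orb _ (htC g hg)
  obtain ⟨p, hp, hpv⟩ := P.mem_adjoin hLQ hzL q2 htv
  obtain ⟨d, hd, hvd⟩ := P.exists_noncomm hDQ P.D_comm hDcard.ge q2 h2D
  have hc1 : ⁅v2, d⁆ ≠ 1 := fun h => hvd (commutatorElement_eq_one_iff_mul_comm.1 h)
  have htinv : ∀ q ∈ P.C'.Q, ∃ η ∈ zpowers P.y, t * q * t⁻¹ = η * q⁻¹ := fun q hq =>
    ⟨_, htQ q hq, by group⟩
  obtain ⟨η, hη, hdt⟩ := htinv d (hDQ' hd)
  have hηA : η ∈ P.A := (zpowers_le.2 P.y_A) hη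
  have hηL : η ∈ L := (zpowers_le.2 hyL) hη
  have cL : ∀ a ∈ L, Commute a v2 ∧ Commute a d ∧ Commute a b := fun a ha => by
    refine ⟨?_, P.D_comm a (sup_le (zpowers_le.2 P.z_D) (zpowers_le.2 P.y_D) ha) d hd,
      (P.comm_mem_zy hb ha).symm⟩
    have : L ≤ centralizer ({v2} : Set G) :=
      sup_le (zpowers_le.2 (mem_centralizer_singleton_iff.2 (P.commute_z (P.Q_le q2)).eq.symm))
        (zpowers_le.2 (mem_centralizer_singleton_iff.2 habel.eq))
    exact mem_centralizer_singleton_iff.1 (this ha)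
  have drop : ∀ {p v η u : G}, Commute p v → Commute p η → Commute p u → Commute η v → Commute η u →
      ⁅p * v, η * u⁆ = ⁅v, u⁆ := by
    intro p v η u h1 h2 h3 h4 h5
    have e1 : ⁅p * v, η * u⁆ = p * ⁅v, η * u⁆ * p⁻¹ * ⁅p, η * u⁆ := by
      simp only [commutatorElement_def]; group
    have e2 : ⁅v, η * u⁆ = ⁅v, η⁆ * η * ⁅v, u⁆ * η⁻¹ := by
      simp only [commutatorElement_def]; group
    have c : ∀ {x : G}, Commute x v → Commute x u → Commute x ⁅v, u⁆ := fun hv hu => by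
      rw [commutatorElement_def]
      exact ((hv.mul_right hu).mul_right hv.inv_right).mul_right hu.inv_right
    rw [e1, commutatorElement_eq_one_iff_mul_comm.2 (h2.mul_right h3).eq, mul_one, e2,
      commutatorElement_eq_one_iff_mul_comm.2 h4.symm.eq, one_mul, (c h4 h5).eq, mul_inv_cancel_right,
      (c h1 h3).eq, mul_inv_cancel_right]
  have htinvz : ∀ a ∈ zpowers P.z, t * a * t⁻¹ = a⁻¹ := fun a ha => by
    obtain ⟨n, rfl⟩ := mem_zpowers_iff.1 ha
    rw [← conj_zpow, htz, inv_zpow]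
  have hcz := P.comm_mem v2 q2 d (hDQ hd)
  have hkey : ⁅t * v2 * t⁻¹, η * d⁻¹⁆ = ⁅v2, d⁆⁻¹ := by
    rw [← hdt, show ⁅t * v2 * t⁻¹, t * d * t⁻¹⁆ = t * ⁅v2, d⁆ * t⁻¹ by
      simp only [commutatorElement_def]; group]
    exact htinvz _ hcz
  obtain ⟨cpv, cpd, cpb⟩ := cL p hp
  obtain ⟨cηv, cηd, cηb⟩ := cL η hηL
  have cpη : Commute p η := by
    rcases cyclic_three P.y3 hη with e | e | e <;> rw [e]
    exacts [Commute.one_right _, P.comm_ay (hSA (hLS hp)), (P.comm_ay (hSA (hLS hp))).inv_right]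
  have hpv' : t * v2 * t⁻¹ = p * v2 := by
    rcases hpv with e | e | e
    · exfalso
      rw [e, show p = p * 1 from (mul_one p).symm, drop (Commute.one_right _) cpη cpd.inv_right
        (Commute.one_right _) cηd.inv_right, commutatorElement_one_left] at hkey
      exact hc1 (inv_eq_one.1 hkey.symm)
    · exact e
    · exfalso
      rw [e, drop cpv.inv_right cpη cpd.inv_right cηv.inv_right cηd.inv_right] at hkey
      have e2 : ⁅v2⁻¹, d⁻¹⁆ = ⁅v2, d⁆ := by
        calc ⁅v2⁻¹, d⁻¹⁆ = (d * v2)⁻¹ * ⁅v2, d⁆ * (d * v2) := by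
              simp only [commutatorElement_def]; group
          _ = _ := by
              rw [((P.commute_zpow (mul_mem (P.Q_le (hDQ hd)) (P.Q_le q2)) hcz).inv_left).eq,
                inv_mul_cancel_right]
      rw [e2, eq_inv_iff_mul_eq_one] at hkey
      refine hc1 ?_
      have h3 := cube q2 (hDQ hd)
      rwa [hkey, one_mul] at h3
  obtain ⟨η', hη', hbt⟩ := htinv b hb.1
  obtain ⟨cη'v, -, cη'b⟩ := cL η' ((zpowers_le.2 hyL) hη')
  have cη'p : Commute η' p := by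
    rcases cyclic_three P.y3 hη' with e | e | e <;> rw [e]
    exacts [Commute.one_left _, (P.comm_ay (hSA (hLS hp))).symm,
      (P.comm_ay (hSA (hLS hp))).symm.inv_left]
  have hsb : Commute b s := P.comm_mem_zy hb hsL
  have hts : t * s * t⁻¹ = s⁻¹ := by
    rw [hs, show t * ⁅b, v2⁆ * t⁻¹ = ⁅t * b * t⁻¹, t * v2 * t⁻¹⁆ by
      simp only [commutatorElement_def]; group, hbt, hpv',
      drop cη'b.inv_right cη'p cη'v cpb.inv_right cpv,
      show ⁅b⁻¹, v2⁆ = b⁻¹ * ⁅b, v2⁆⁻¹ * b by simp only [commutatorElement_def]; group, ← hs,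
      hsb.inv_inv.eq, inv_mul_cancel_right]
  have sq : P.y * P.y ∉ zpowers P.z := P.not_mem_of_sq P.y_ne P.y_mem
  obtain ⟨c, hc', e | e | e⟩ := P.mem_line P.y_mem hsL
  · exact hsz (e ▸ hc')
  · rw [e, show t * (c * P.y) * t⁻¹ = t * c * t⁻¹ * (t * P.y * t⁻¹) by group, htinvz c hc', hty,
      mul_inv_rev, ((P.commute_zpow P.y_cz hc').inv_inv).eq, mul_right_inj, eq_inv_iff_mul_eq_one] at hts
    exact sq (hts ▸ one_mem _)
  · rw [e, show t * (c * P.y⁻¹) * t⁻¹ = t * c * t⁻¹ * (t * P.y * t⁻¹)⁻¹ by group, htinvz c hc', hty,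
      mul_inv_rev c, inv_inv, ((P.commute_zpow P.y_cz hc').inv_right).eq, mul_right_inj,
      inv_eq_iff_mul_eq_one] at hts
    exact sq (hts ▸ one_mem _)

end Pair

end Cfsg.Agent.L43Three
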