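import Cfsg.Agent.Lib.L43Three.Basic

/-!
S3373: a conjugate `y` of `z` in `Q`: the subgroup of order 27 common to the two centralisers is
normal in both.
-/

set_option autoImplicit false
set_option linter.style.haveILetI false
set_option linter.unusedSectionVars false

namespace Cfsg.Agent.L43Three

open Subgroup
open Cfsg.Agent.HeisSLThree (SL₂)
open scoped commutatorElement

theorem sl_cover : ∀ u w x : SL₂, u * u * u = 1 → u ≠ 1 → w * w = -1 →
    ∃ k ∈ [1, w, u * w, u * u * w], ∃ j : Fin 3, x = k * u ^ j.val ∨ x = -1 * (k * u ^ j.val) := by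
  decide +kernel

theorem sl_norm : ∀ u w : SL₂, u * u * u = 1 → u ≠ 1 → w * w = -1 → ∀ j : Fin 3,
    w⁻¹ * u * w ≠ u ^ j.val := by decide +kernel

theorem sl_four : ∃ w : SL₂, w * w = -1 := by decide +kernel

theorem sl_even : ∀ x : SL₂, x * x = 1 → x = 1 ∨ x = -1 := by decide +kernel

theorem sl_cube : ∀ u v : SL₂, u * u * u = 1 → u ≠ 1 → v * v * v = 1 → u * v = v * u →
    ∃ j : Fin 3, v = u ^ j.val := by decide +kernel

namespace Conf

variable {G : Type*} [Group G] [Finite G] (C : Conf G)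
include C

theorem bracket_mul_right {a b c : G} (ha : a ∈ C.Q) (hb : b ∈ C.Q) (hc : c ∈ C.Q) :
    ⁅a, b * c⁆ = ⁅a, b⁆ * ⁅a, c⁆ := by
  rw [← commutatorElement_inv, C.bracket_mul_left hb hc ha, mul_inv_rev,
    commutatorElement_inv, commutatorElement_inv]
  exact C.commute_zpow (C.Q_le (C.Z_le_Q (C.comm_mem a ha c hc))) (C.comm_mem a ha b hb)

theorem pi_inv {t : G} (ht : t ∈ C.Cz) (h2 : t * t = 1) (h1 : t ≠ 1) : C.pi ⟨t, ht⟩ = -1 := by
  refine (sl_even _ ?_).resolve_left fun h => h1 ?_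
  · rw [← map_mul, show (⟨t, ht⟩ * ⟨t, ht⟩ : C.Cz) = 1 from Subtype.ext h2, map_one]
  · have h3 := C.exp_Q t ((C.pi_ker _).1 h)
    rw [pow_succ, pow_two, h2, one_mul] at h3
    exact h3

/-- Elements over the central involution invert `Q` modulo the centre. -/
theorem inverts {c : G} (hc : c ∈ C.Cz) (hp : C.pi ⟨c, hc⟩ = -1) {q : G} (hq : q ∈ C.Q) :
    c * q * c⁻¹ * q ∈ zpowers C.z := by
  obtain ⟨t, ht, h2, h1, hinv⟩ := C.inv
  have hk : t⁻¹ * c ∈ C.Q := (C.pi_ker (⟨t, ht⟩⁻¹ * ⟨c, hc⟩)).1 (by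
    rw [map_mul, map_inv, hp, C.pi_inv ht h2 h1, inv_mul_cancel])
  set p := t⁻¹ * c with hp'
  have e : c * q * c⁻¹ * q = (t * ⁅p, q⁆ * t⁻¹) * (t * q * t⁻¹ * q) := by
    rw [hp']; simp only [commutatorElement_def]; group
  rw [e]
  refine mul_mem ?_ (hinv q hq)
  rw [(C.commute_zpow ht (C.comm_mem p hk q hq)).eq, mul_inv_cancel_right]
  exact C.comm_mem p hk q hq

theorem not_mem_of_sq {x : G} (hx : x ∉ zpowers C.z) (hq : x ∈ C.Q) : x * x ∉ zpowers C.z := by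
  intro h
  refine hx ?_
  have h3 := C.exp_Q x hq
  have : x = (x * x)⁻¹ := eq_inv_of_mul_eq_one_right (by rw [← h3, pow_succ, pow_two])
  rw [this]
  exact inv_mem h

theorem exists_bracket {y : G} (hy : y ∈ C.Q) (hyz : y ∉ zpowers C.z) {c : G}
    (hc : c ∈ zpowers C.z) : ∃ q ∈ C.Q, ⁅q, y⁆ = c := by
  haveI : Fact (Nat.card (zpowers C.z)).Prime := ⟨by rw [C.card_Z]; exact Nat.prime_three⟩
  have hr : (C.bracketHom hy).range = ⊤ :=
    ((C.bracketHom hy).range.eq_bot_or_eq_top_of_prime_card).resolve_left fun h => hyz <| by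
      refine C.center_Q y hy fun q hq => ?_
      have hm : C.bracketHom hy ⟨q, hq⟩ ∈ (C.bracketHom hy).range := ⟨⟨q, hq⟩, rfl⟩
      rw [h, mem_bot] at hm
      exact (commutatorElement_eq_one_iff_mul_comm.1 (congrArg Subtype.val hm)).symm
  obtain ⟨q, hq⟩ := hr ▸ mem_top (⟨c, hc⟩ : zpowers C.z)
  exact ⟨q, q.2, congrArg Subtype.val hq⟩

theorem mem_cent {E : Subgroup G} {x : G} : x ∈ centralizer (E : Set G) ↔ ∀ a ∈ E, a * x = x * a :=
  mem_centralizer_iff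

/-- An element outside an abelian subgroup of order 27 moves one of its elements. -/
theorem exists_noncomm {E : Subgroup G} (hE : E ≤ C.Q) (hc : ∀ a ∈ E, ∀ b ∈ E, a * b = b * a)
    (h27 : 27 ≤ Nat.card E) {x : G} (hx : x ∈ C.Q) (hxE : x ∉ E) : ∃ d ∈ E, x * d ≠ d * x := by
  by_contra h
  push Not at h
  set F := closure ((E : Set G) ∪ {x}) with hF
  have hle : F ≤ C.Q := (closure_le _).2 (Set.union_subset hE (Set.singleton_subset_iff.2 hx))
  haveI : IsMulCommutative F := isMulCommutative_closure (by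
    rintro a (ha | ha) b (hb | hb)
    · exact hc a ha b hb
    · rw [Set.mem_singleton_iff.1 hb]; exact (h a ha).symm
    · rw [Set.mem_singleton_iff.1 ha]; exact h b hb
    · rw [Set.mem_singleton_iff.1 ha, Set.mem_singleton_iff.1 hb])
  have hlt : E < F := lt_of_le_of_ne (fun a ha => subset_closure (Or.inl ha))
    fun e => hxE (e ▸ subset_closure (Or.inr rfl))
  have h1 : Nat.card E < Nat.card F :=
    Set.ncard_lt_ncard (s := (E : Set G)) (t := F) hlt (Set.toFinite _)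
  have := C.abel_le F hle fun a ha b hb =>
    congrArg Subtype.val ((inferInstance : IsMulCommutative F).is_comm.comm (⟨a, ha⟩ : F) ⟨b, hb⟩)
  omega

/-- Adjoining an element to a subgroup of `Q` containing `z`. -/
theorem card_adjoin {E : Subgroup G} (hE : E ≤ C.Q) (hz : C.z ∈ E) {v : G} (hv : v ∈ C.Q) :
    Nat.card ↥(E ⊔ zpowers v) ≤ 3 * Nat.card E ∧
      (v ∉ E → Nat.card ↥(E ⊔ zpowers v) = 3 * Nat.card E) := by
  haveI : Fact (Nat.Prime 3) := ⟨Nat.prime_three⟩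
  have hN : zpowers v ≤ normalizer (E : Set G) := by
    rw [zpowers_le]
    refine mem_normalizer_iff.2 fun a => ?_
    have key : ∀ w ∈ C.Q, ∀ a ∈ E, w * a * w⁻¹ ∈ E := by
      intro w hw a ha
      rw [show w * a * w⁻¹ = ⁅w, a⁆ * a by rw [commutatorElement_def]; group]
      exact mul_mem ((zpowers_le.2 hz) (C.comm_mem w hw a (hE ha))) ha
    refine ⟨key v hv a, fun h => ?_⟩
    have := key v⁻¹ (inv_mem hv) _ h
    rwa [show v⁻¹ * (v * a * v⁻¹) * v⁻¹⁻¹ = a by group] at this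
  have hle : Nat.card ↥(E ⊔ zpowers v) ≤ 3 * Nat.card E := by
    have hc : Nat.card (zpowers v) ≤ 3 := by
      rw [Nat.card_zpowers]
      exact Nat.le_of_dvd (by norm_num) (orderOf_dvd_of_pow_eq_one (C.exp_Q v hv))
    have he : ((E ⊔ zpowers v : Subgroup G) : Set G) = Set.image2 (· * ·) (E : Set G) (zpowers v : Set G) := by
      rw [coe_mul_of_right_le_normalizer_left _ _ hN]
      rfl
    calc Nat.card ↥(E ⊔ zpowers v) = ((E ⊔ zpowers v : Subgroup G) : Set G).ncard := rfl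
      _ ≤ (E : Set G).ncard * (zpowers v : Set G).ncard := by
          rw [he, ← Set.image_prod, ← Set.ncard_prod]
          exact Set.ncard_image_le (Set.toFinite _)
      _ ≤ Nat.card E * 3 := Nat.mul_le_mul le_rfl hc
      _ = _ := mul_comm _ _
  refine ⟨hle, fun hvE => le_antisymm hle ?_⟩
  have hS : E ⊔ zpowers v ≤ C.Q := sup_le hE (zpowers_le.2 hv)
  have hlt : E < E ⊔ zpowers v :=
    lt_of_le_of_ne le_sup_left fun e => hvE (e ▸ mem_sup_right (mem_zpowers v))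
  obtain ⟨k, hk⟩ := IsPGroup.iff_card.1 (C.isPGroup_Q.to_le hS)
  obtain ⟨l, hl⟩ := IsPGroup.iff_card.1 (C.isPGroup_Q.to_le hE)
  have h1 : Nat.card E < Nat.card ↥(E ⊔ zpowers v) :=
    Set.ncard_lt_ncard (s := (E : Set G)) (t := (E ⊔ zpowers v : Subgroup G)) hlt (Set.toFinite _)
  rw [hk, hl] at h1 ⊢
  rw [← pow_succ']
  exact Nat.pow_le_pow_right (by norm_num) ((Nat.pow_lt_pow_iff_right (by norm_num)).1 h1)

theorem card_zy {y : G} (hy : y ∈ C.Q) (hyz : y ∉ zpowers C.z) :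
    Nat.card ↥(zpowers C.z ⊔ zpowers y) = 9 := by
  rw [(C.card_adjoin C.Z_le_Q (mem_zpowers _) hy).2 hyz, C.card_Z]

end Conf

/-- A conjugate of `z` in `Q`. -/
structure Pair (G : Type*) [Group G] [Finite G] extends Conf G where
  /-- the conjugating element -/
  g : G
  y_mem : g * z * g⁻¹ ∈ Q
  y_ne : g * z * g⁻¹ ∉ zpowers z

namespace Pair

variable {G : Type*} [Group G] [Finite G] (P : Pair G)
include P

/-- The conjugate. -/
abbrev y : G := P.g * P.z * P.g⁻¹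

/-- The configuration at the conjugate. -/
abbrev C' : Conf G := P.toConf.conj P.g

/-- The centraliser of `y` in `Q`. -/
abbrev A : Subgroup G := P.Q ⊓ centralizer ({P.y} : Set G)

/-- The centraliser of `z` in the subgroup attached to `y`. -/
abbrev B : Subgroup G := P.C'.Q ⊓ centralizer ({P.z} : Set G)

/-- The common subgroup. -/
abbrev D : Subgroup G := P.A ⊓ P.B

theorem y_cz : P.y ∈ P.Cz := P.Q_le P.y_mem

theorem comm_zy : P.z * P.y = P.y * P.z := (P.mem_Cz.1 P.y_cz).symm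

theorem z_C' : P.z ∈ P.C'.Cz := mem_centralizer_singleton_iff.2 P.comm_zy

theorem card_A : Nat.card P.A = 81 := P.card_inf_centralizer P.y_mem P.y_ne

theorem A_Cz : P.A ≤ P.Cz := inf_le_left.trans P.Q_le

theorem A_C' : P.A ≤ P.C'.Cz := inf_le_right

theorem z_A : P.z ∈ P.A := mem_inf.2 ⟨P.z_mem, mem_centralizer_singleton_iff.2 P.comm_zy⟩

theorem y_A : P.y ∈ P.A := mem_inf.2 ⟨P.y_mem, mem_centralizer_singleton_iff.2 rfl⟩

theorem exists_bracket_A : ∃ a ∈ P.A, ∃ b ∈ P.A, ⁅a, b⁆ ≠ 1 := by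
  by_contra h
  push Not at h
  have := P.abel_le P.A inf_le_left fun a ha b hb =>
    commutatorElement_eq_one_iff_mul_comm.1 (h a ha b hb)
  rw [P.card_A] at this
  omega

theorem z_Q' : P.z ∈ P.C'.Q := by
  obtain ⟨a, ha, b, hb, hne⟩ := P.exists_bracket_A
  have h1 := P.C'.bracket_mem_Q P.A_C' (P.isPGroup_Q.to_le inf_le_left) ha hb
  rcases P.z_cases (P.comm_mem a ha.1 b hb.1) with h | h | h
  · exact absurd h hne
  · rwa [h] at h1
  · rw [h] at h1
    exact inv_mem_iff.1 h1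

theorem z_ny : P.z ∉ zpowers P.y := by
  intro h
  have hy : P.y ∈ zpowers P.C'.z := mem_zpowers _
  rcases P.C'.z_cases (show P.z ∈ zpowers P.C'.z from h) with e | e | e
  · exact P.z_ne e
  · exact P.y_ne (show P.y ∈ _ by rw [show P.y = P.z from e.symm]; exact mem_zpowers _)
  · exact P.y_ne (show P.y ∈ _ by
      rw [show P.y = P.z⁻¹ from (inv_eq_iff_eq_inv.1 e.symm)]
      exact inv_mem (mem_zpowers _))

theorem inter_zy {x : G} (hx : x ∈ zpowers P.z) (hx' : x ∈ zpowers P.y) : x = 1 := by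
  rcases P.z_cases hx with h | h | h
  · exact h
  · exact absurd (h ▸ hx') P.z_ny
  · exact absurd (inv_mem_iff.1 (h ▸ hx')) P.z_ny

theorem card_B : Nat.card P.B = 81 := P.C'.card_inf_centralizer P.z_Q' P.z_ny

theorem B_Cz : P.B ≤ P.Cz := inf_le_right

theorem B_C' : P.B ≤ P.C'.Cz := inf_le_left.trans P.C'.Q_le

theorem z_B : P.z ∈ P.B := mem_inf.2 ⟨P.z_Q', mem_centralizer_singleton_iff.2 rfl⟩

theorem y_B : P.y ∈ P.B := mem_inf.2 ⟨P.C'.z_mem, P.y_cz⟩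

theorem B_not_le : ¬ P.B ≤ P.Q := by
  intro h
  have hBA : P.B ≤ P.A := fun b hb => mem_inf.2 ⟨h hb, P.B_C' hb⟩
  have e : P.B = P.A := eq_of_le_of_card_ge hBA (by rw [P.card_A, P.card_B])
  obtain ⟨a, ha, b, hb, hne⟩ := P.exists_bracket_A
  refine hne (P.inter_zy (P.comm_mem a ha.1 b hb.1) ?_)
  rw [← e] at ha hb
  exact P.C'.comm_mem a ha.1 b hb.1

/-- The common centraliser maps to elements of order dividing three. -/
theorem pi_cube {x : G} (hx : x ∈ P.Cz) (hy : Commute x P.y) :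
    ¬ P.pi ⟨x, hx⟩ = -1 := by
  intro h
  refine P.not_mem_of_sq P.y_ne P.y_mem ?_
  have := P.inverts hx h P.y_mem
  rwa [hy.eq, mul_inv_cancel_right] at this

/-- An element of `B` outside `Q`. -/
theorem exists_b : ∃ b ∈ P.B, b ∉ P.Q := SetLike.not_le_iff_exists.1 P.B_not_le

theorem b3 {b : G} (hb : b ∈ P.B) : b ^ 3 = 1 := P.C'.exp_Q b hb.1

theorem pi_b {b : G} (hb : b ∈ P.B) (hbQ : b ∉ P.Q) :
    P.pi ⟨b, P.B_Cz hb⟩ * P.pi ⟨b, P.B_Cz hb⟩ * P.pi ⟨b, P.B_Cz hb⟩ = 1 ∧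
      P.pi ⟨b, P.B_Cz hb⟩ ≠ 1 := by
  refine ⟨?_, fun h => hbQ ((P.pi_ker _).1 h)⟩
  rw [← map_mul, ← map_mul, show (⟨b, P.B_Cz hb⟩ * ⟨b, _⟩ * ⟨b, _⟩ : P.Cz) = 1 from
    Subtype.ext (show b * b * b = 1 by rw [← P.b3 hb, pow_succ, pow_two]), map_one]

theorem card_D : Nat.card P.D = 27 := by
  haveI : Fact (Nat.Prime 3) := ⟨Nat.prime_three⟩
  set f : P.B →* SL₂ := P.pi.comp (Subgroup.inclusion P.B_Cz)
  have hk : f.ker = P.D.subgroupOf P.B := by
    ext x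
    rw [MonoidHom.mem_ker, mem_subgroupOf]
    show P.pi ⟨(x : G), _⟩ = 1 ↔ _
    rw [P.pi_ker]
    exact ⟨fun h => mem_inf.2 ⟨mem_inf.2 ⟨h, P.B_C' x.2⟩, x.2⟩, fun h => h.1.1⟩
  have h := Subgroup.card_eq_card_quotient_mul_card_subgroup f.ker
  rw [Nat.card_congr (QuotientGroup.quotientKerEquivRange f).toEquiv, P.card_B, hk,
    Nat.card_congr (subgroupOfEquivOfLe inf_le_right).toEquiv] at h
  have hp : IsPGroup 3 f.range := by
    rw [MonoidHom.range_eq_map]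
    exact ((P.C'.isPGroup_Q.to_le inf_le_left).of_equiv topEquiv.symm).map _
  obtain ⟨k, hk'⟩ := IsPGroup.iff_card.1 hp
  have h3 := Conf.card_three_sl f.range hp
  obtain ⟨b, hb, hbQ⟩ := P.exists_b
  haveI : Nontrivial f.range := ⟨⟨⟨_, ⟨b, hb⟩, rfl⟩, 1, fun e =>
    hbQ ((P.pi_ker _).1 (congrArg Subtype.val e))⟩⟩
  have h1 : 1 < Nat.card f.range := Finite.one_lt_card
  rcases k with _ | _ | k
  · rw [hk'] at h1; norm_num at h1
  · rw [hk'] at h; norm_num at h ⊢; omega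
  · rw [hk'] at h3
    have : 3 ^ 2 ≤ 3 ^ (k + 1 + 1) := Nat.pow_le_pow_right (by norm_num) (by omega)
    omega

theorem z_D : P.z ∈ P.D := mem_inf.2 ⟨P.z_A, P.z_B⟩

theorem y_D : P.y ∈ P.D := mem_inf.2 ⟨P.y_A, P.y_B⟩

theorem D_comm : ∀ a ∈ P.D, ∀ b ∈ P.D, a * b = b * a := fun a ha b hb =>
  commutatorElement_eq_one_iff_mul_comm.1
    (P.inter_zy (P.comm_mem a ha.1.1 b hb.1.1) (P.C'.comm_mem a ha.2.1 b hb.2.1))

/-- An involution centralising `y`, inverting `z` and inverting `B` modulo `⟨y⟩`. -/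
theorem exists_t' : ∃ t ∈ P.C'.Cz, t * t = 1 ∧ t * P.z * t⁻¹ = P.z⁻¹ ∧
    ∀ q ∈ P.C'.Q, t * q * t⁻¹ * q ∈ zpowers P.y := by
  obtain ⟨t, ht, h2, h1, hinv⟩ := P.C'.inv
  set c0 := t * P.z * t⁻¹ * P.z with hc0
  have hc0' : c0 ∈ zpowers P.C'.z := hinv _ P.z_Q'
  obtain ⟨q, hq, hqc⟩ := P.C'.exists_bracket P.z_Q' P.z_ny (inv_mem hc0')
  have hqt : q * t * q⁻¹ ∈ P.C'.Cz :=
    mul_mem (mul_mem (P.C'.Q_le hq) ht) (inv_mem (P.C'.Q_le hq))
  refine ⟨q * t * q⁻¹, hqt, ?_, ?_, fun p hp => ?_⟩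
  · calc q * t * q⁻¹ * (q * t * q⁻¹) = q * (t * t) * q⁻¹ := by group
      _ = _ := by rw [h2]; group
  · have cc : ∀ {x c : G}, x ∈ P.C'.Cz → c ∈ zpowers P.C'.z → Commute x c :=
      fun hx hc => P.C'.commute_zpow hx hc
    have e1 : q * P.z * q⁻¹ = c0⁻¹ * P.z := by rw [← hqc, commutatorElement_def]; group
    have e2 : q⁻¹ * P.z * q = c0 * P.z := by
      calc q⁻¹ * P.z * q = c0 * (q⁻¹ * (c0⁻¹ * P.z) * q) := by
            rw [← mul_assoc q⁻¹, ((cc (inv_mem (P.C'.Q_le hq)) (inv_mem hc0')).eq)]; group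
        _ = _ := by rw [← e1]; group
    have e3 : t * P.z * t⁻¹ = c0 * P.z⁻¹ := by rw [hc0]; group
    have e4 : q * P.z⁻¹ * q⁻¹ = P.z⁻¹ * c0 := by
      rw [show q * P.z⁻¹ * q⁻¹ = (q * P.z * q⁻¹)⁻¹ by group, e1]; group
    have c3 : c0 * c0 * c0 = 1 := by
      have := P.C'.exp_Q c0 (P.C'.Z_le_Q hc0')
      rwa [pow_succ, pow_two] at this
    calc q * t * q⁻¹ * P.z * (q * t * q⁻¹)⁻¹
        = q * (t * (q⁻¹ * P.z * q) * t⁻¹) * q⁻¹ := by group
      _ = q * ((t * c0 * t⁻¹) * (t * P.z * t⁻¹)) * q⁻¹ := by rw [e2]; group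
      _ = q * (c0 * c0) * q⁻¹ * (q * P.z⁻¹ * q⁻¹) := by
          rw [(cc ht hc0').eq, e3]; group
      _ = c0 * c0 * (P.z⁻¹ * c0) := by
          rw [e4, (cc (P.C'.Q_le hq) (mul_mem hc0' hc0')).eq]; group
      _ = c0 * c0 * c0 * P.z⁻¹ := by
          rw [(cc (inv_mem (P.C'.Q_le P.z_Q')) hc0').eq]; group
      _ = _ := by rw [c3, one_mul]
  · exact P.C'.inverts hqt (P.C'.pi_inv hqt (by
      calc q * t * q⁻¹ * (q * t * q⁻¹) = q * (t * t) * q⁻¹ := by group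
        _ = 1 := by rw [h2]; group) fun h => h1 (conj_eq_one_iff.1 h)) hp

end Pair

end Cfsg.Agent.L43Three
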